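import Cfsg.Agent.Lib.Char.Linear
import Cfsg.Agent.Lib.Char.Induced

/-!
Commuting disjoint pairs `W₁, W₂` and their linear characters.

* `p₁`, `p₂` : the projections of `W = W₁ ⊔ W₂`, `ω = lfst ω * lsnd ω`
* `alpha ω` : the function `(1 - lfst ω) (1 - lsnd ω)`, supported on `V = W \ (W₁ ∪ W₂)`
* `classInner_lin`, `lin_expansion`, `expansion_alpha`
* `mem_of_conj_mem` : for a self-normalising cyclic pair, `V` is a TI set with normaliser `W`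
* `indFun_alpha_eq` : induction agrees with `alpha` on `V`
* `inner_alpha` : the key identity for a cyclic TI family
-/
set_option autoImplicit false

namespace Cfsg.Agent.CyclicTI

open Cfsg Cfsg.Agent.Char
open scoped ComplexConjugate

variable {G : Type*} [Group G] {W₁ W₂ : Subgroup G}

/-- The hypotheses making `W₁ ⊔ W₂` a direct product of `W₁` and `W₂`. -/
structure IsPair (W₁ W₂ : Subgroup G) : Prop where
  disj : W₁ ⊓ W₂ = ⊥
  comm : ∀ a ∈ W₁, ∀ b ∈ W₂, a * b = b * a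

theorem isPair_of_selfNormalizing (hW : IsSelfNormalizingCyclic W₁ W₂) : IsPair W₁ W₂ :=
  ⟨hW.2.2.1, hW.2.2.2.1⟩

namespace IsPair

variable (hP : IsPair W₁ W₂)
include hP

theorem exists_mul {w : G} (hw : w ∈ W₁ ⊔ W₂) : ∃ a ∈ W₁, ∃ b ∈ W₂, a * b = w := by
  have fix : ∀ b ∈ W₂, ∀ y ∈ W₁, b * y * b⁻¹ = y := fun b hb y hy => by
    rw [← hP.comm y hy b hb]; group
  have hn : W₂ ≤ Subgroup.normalizer (W₁ : Set G) := by
    intro b hb
    rw [Subgroup.mem_normalizer_iff]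
    intro y
    refine ⟨fun hy => (fix b hb y hy).symm ▸ hy, fun hy => ?_⟩
    have := fix b⁻¹ (inv_mem hb) _ hy
    simp [mul_assoc] at this
    rw [this]; simpa [mul_assoc] using hy
  rw [← SetLike.mem_coe, Subgroup.coe_mul_of_right_le_normalizer_left _ _ hn] at hw
  obtain ⟨a, ha, b, hb, he⟩ := hw
  exact ⟨a, ha, b, hb, he⟩

theorem unique {a a' b b' : G} (ha : a ∈ W₁) (ha' : a' ∈ W₁) (hb : b ∈ W₂) (hb' : b' ∈ W₂)
    (h : a * b = a' * b') : a = a' ∧ b = b' := by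
  have hmem : a'⁻¹ * a ∈ W₁ ⊓ W₂ := by
    refine Subgroup.mem_inf.mpr ⟨mul_mem (inv_mem ha') ha, ?_⟩
    rw [show a'⁻¹ * a = b' * b⁻¹ by
      rw [eq_mul_inv_iff_mul_eq, mul_assoc, h, inv_mul_cancel_left]]
    exact mul_mem hb' (inv_mem hb)
  rw [hP.disj, Subgroup.mem_bot, inv_mul_eq_one] at hmem
  refine ⟨hmem.symm, ?_⟩
  subst hmem
  exact mul_left_cancel h

/-- The isomorphism `W₁ × W₂ ≃* W₁ ⊔ W₂`. -/
noncomputable def prodEquiv : W₁ × W₂ ≃* ↥(W₁ ⊔ W₂) :=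
  MulEquiv.ofBijective
    (MonoidHom.mk' (fun p => (⟨(p.1 : G) * p.2,
        mul_mem (Subgroup.mem_sup_left p.1.2) (Subgroup.mem_sup_right p.2.2)⟩ : ↥(W₁ ⊔ W₂)))
      (fun p q => Subtype.ext (by
        simp only [Prod.fst_mul, Prod.snd_mul, Subgroup.coe_mul]
        rw [mul_assoc, mul_assoc, ← mul_assoc (q.1 : G), hP.comm q.1 q.1.2 p.2 p.2.2]
        group)))
    ⟨fun p q h => by
        obtain ⟨h1, h2⟩ := hP.unique p.1.2 q.1.2 p.2.2 q.2.2 (congrArg Subtype.val h)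
        exact Prod.ext (Subtype.ext h1) (Subtype.ext h2),
      fun w => by
        obtain ⟨a, ha, b, hb, he⟩ := hP.exists_mul w.2
        exact ⟨(⟨a, ha⟩, ⟨b, hb⟩), Subtype.ext he⟩⟩

/-- Projection to `W₁`. -/
noncomputable def p₁ : ↥(W₁ ⊔ W₂) →* ↥(W₁ ⊔ W₂) :=
  (Subgroup.inclusion le_sup_left).comp ((MonoidHom.fst W₁ W₂).comp hP.prodEquiv.symm.toMonoidHom)

/-- Projection to `W₂`. -/
noncomputable def p₂ : ↥(W₁ ⊔ W₂) →* ↥(W₁ ⊔ W₂) :=
  (Subgroup.inclusion le_sup_right).comp ((MonoidHom.snd W₁ W₂).comp hP.prodEquiv.symm.toMonoidHom)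

theorem p₁_mem (w : ↥(W₁ ⊔ W₂)) : (hP.p₁ w : G) ∈ W₁ := SetLike.coe_mem _

theorem p₂_mem (w : ↥(W₁ ⊔ W₂)) : (hP.p₂ w : G) ∈ W₂ := SetLike.coe_mem _

theorem p_mul (w : ↥(W₁ ⊔ W₂)) : hP.p₁ w * hP.p₂ w = w := by
  conv_rhs => rw [← hP.prodEquiv.apply_symm_apply w]
  exact Subtype.ext rfl

theorem p_unique {w : ↥(W₁ ⊔ W₂)} {a b : G} (ha : a ∈ W₁) (hb : b ∈ W₂) (h : a * b = (w : G)) :
    (hP.p₁ w : G) = a ∧ (hP.p₂ w : G) = b := by
  refine hP.unique (hP.p₁_mem w) ha (hP.p₂_mem w) hb ?_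
  rw [h, ← Subgroup.coe_mul, hP.p_mul]

theorem p₁_of_mem {w : ↥(W₁ ⊔ W₂)} (h : (w : G) ∈ W₁) : hP.p₁ w = w ∧ hP.p₂ w = 1 := by
  obtain ⟨h1, h2⟩ := hP.p_unique (w := w) h (one_mem _) (mul_one _)
  exact ⟨Subtype.ext h1, Subtype.ext h2⟩

theorem p₂_of_mem {w : ↥(W₁ ⊔ W₂)} (h : (w : G) ∈ W₂) : hP.p₁ w = 1 ∧ hP.p₂ w = w := by
  obtain ⟨h1, h2⟩ := hP.p_unique (w := w) (one_mem _) h (one_mul _)
  exact ⟨Subtype.ext h1, Subtype.ext h2⟩

/-- The component of `ω` trivial on `W₂`. -/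
noncomputable def lfst (ω : ↥(W₁ ⊔ W₂) →* ℂˣ) : ↥(W₁ ⊔ W₂) →* ℂˣ := ω.comp hP.p₁

/-- The component of `ω` trivial on `W₁`. -/
noncomputable def lsnd (ω : ↥(W₁ ⊔ W₂) →* ℂˣ) : ↥(W₁ ⊔ W₂) →* ℂˣ := ω.comp hP.p₂

theorem lfst_mul_lsnd (ω : ↥(W₁ ⊔ W₂) →* ℂˣ) : hP.lfst ω * hP.lsnd ω = ω :=
  MonoidHom.ext fun w => by
    show ω (hP.p₁ w) * ω (hP.p₂ w) = ω w
    rw [← map_mul, hP.p_mul]

theorem lfst_apply_of_mem₁ (ω : ↥(W₁ ⊔ W₂) →* ℂˣ) {w : ↥(W₁ ⊔ W₂)} (h : (w : G) ∈ W₁) :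
    hP.lfst ω w = ω w := congrArg ω (hP.p₁_of_mem h).1

theorem lfst_apply_of_mem₂ (ω : ↥(W₁ ⊔ W₂) →* ℂˣ) {w : ↥(W₁ ⊔ W₂)} (h : (w : G) ∈ W₂) :
    hP.lfst ω w = 1 := by
  show ω (hP.p₁ w) = 1
  rw [(hP.p₂_of_mem h).1, map_one]

theorem lsnd_apply_of_mem₂ (ω : ↥(W₁ ⊔ W₂) →* ℂˣ) {w : ↥(W₁ ⊔ W₂)} (h : (w : G) ∈ W₂) :
    hP.lsnd ω w = ω w := congrArg ω (hP.p₂_of_mem h).2

theorem lsnd_apply_of_mem₁ (ω : ↥(W₁ ⊔ W₂) →* ℂˣ) {w : ↥(W₁ ⊔ W₂)} (h : (w : G) ∈ W₁) :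
    hP.lsnd ω w = 1 := by
  show ω (hP.p₂ w) = 1
  rw [(hP.p₁_of_mem h).2, map_one]

/-- Linear characters agreeing on both factors are equal. -/
theorem lin_ext {f g : ↥(W₁ ⊔ W₂) →* ℂˣ} (h₁ : ∀ w : ↥(W₁ ⊔ W₂), (w : G) ∈ W₁ → f w = g w)
    (h₂ : ∀ w : ↥(W₁ ⊔ W₂), (w : G) ∈ W₂ → f w = g w) : f = g :=
  MonoidHom.ext fun w => by
    rw [← hP.p_mul w, map_mul, map_mul, h₁ _ (hP.p₁_mem w), h₂ _ (hP.p₂_mem w)]

theorem lfst_eq {φ : ↥(W₁ ⊔ W₂) →* ℂˣ} (h : ∀ w : ↥(W₁ ⊔ W₂), (w : G) ∈ W₂ → φ w = 1) :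
    hP.lfst φ = φ :=
  hP.lin_ext (fun _ hw => hP.lfst_apply_of_mem₁ φ hw)
    (fun w hw => by rw [hP.lfst_apply_of_mem₂ φ hw, h w hw])

theorem lsnd_eq {ψ : ↥(W₁ ⊔ W₂) →* ℂˣ} (h : ∀ w : ↥(W₁ ⊔ W₂), (w : G) ∈ W₁ → ψ w = 1) :
    hP.lsnd ψ = ψ :=
  hP.lin_ext (fun w hw => by rw [hP.lsnd_apply_of_mem₁ ψ hw, h w hw])
    (fun _ hw => hP.lsnd_apply_of_mem₂ ψ hw)

theorem split_mul {φ ψ : ↥(W₁ ⊔ W₂) →* ℂˣ} (hφ : ∀ w : ↥(W₁ ⊔ W₂), (w : G) ∈ W₂ → φ w = 1)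
    (hψ : ∀ w : ↥(W₁ ⊔ W₂), (w : G) ∈ W₁ → ψ w = 1) :
    hP.lfst (φ * ψ) = φ ∧ hP.lsnd (φ * ψ) = ψ :=
  ⟨hP.lin_ext (fun w hw => by rw [hP.lfst_apply_of_mem₁ _ hw, MonoidHom.mul_apply, hψ w hw, mul_one])
      (fun w hw => by rw [hP.lfst_apply_of_mem₂ _ hw, hφ w hw]),
    hP.lin_ext (fun w hw => by rw [hP.lsnd_apply_of_mem₁ _ hw, hψ w hw])
      (fun w hw => by rw [hP.lsnd_apply_of_mem₂ _ hw, MonoidHom.mul_apply, hφ w hw, one_mul])⟩

theorem mem₂_iff {w : ↥(W₁ ⊔ W₂)} : (w : G) ∈ W₂ ↔ hP.p₁ w = 1 := by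
  refine ⟨fun h => (hP.p₂_of_mem h).1, fun h => ?_⟩
  rw [← hP.p_mul w, h, one_mul]
  exact hP.p₂_mem w

theorem mem₁_iff {w : ↥(W₁ ⊔ W₂)} : (w : G) ∈ W₁ ↔ hP.p₂ w = 1 := by
  refine ⟨fun h => (hP.p₁_of_mem h).2, fun h => ?_⟩
  rw [← hP.p_mul w, h, mul_one]
  exact hP.p₁_mem w

end IsPair

/-- The value of a linear character as a complex function. -/
def lin {X : Type*} [Group X] (ω : X →* ℂˣ) : X → ℂ := fun w => (ω w : ℂ)

@[simp] theorem lin_apply {X : Type*} [Group X] (ω : X →* ℂˣ) (w : X) : lin ω w = (ω w : ℂ) := rfl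

theorem lin_irr {X : Type*} [Group X] (ω : X →* ℂˣ) : IsIrrCharacter X (lin ω) :=
  isIrrCharacter_of_hom ((Units.coeHom ℂ).comp ω)

theorem lin_injective {X : Type*} [Group X] : Function.Injective (lin (X := X)) :=
  fun _ _ e => MonoidHom.ext fun w => Units.ext (congrFun e w)

open Classical in
theorem classInner_lin {X : Type*} [Group X] [Fintype X] (f g : X →* ℂˣ) :
    classInner (lin f) (lin g) = if f = g then 1 else 0 := by
  split_ifs with h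
  · subst h; exact classInner_irr_self (lin_irr f)
  · exact classInner_irr_of_ne (lin_irr f) (lin_irr g) fun e => h (lin_injective e)

theorem finite_lin (X : Type*) [Group X] [Finite X] : Finite (X →* ℂˣ) :=
  Finite.of_injective (fun ω => (⟨lin ω, lin_irr ω⟩ : IrrCharacter X))
    fun _ _ e => lin_injective (congrArg Subtype.val e)

/-- Every function on an abelian group is a combination of linear characters. -/
theorem lin_expansion {X : Type*} [Group X] [Fintype X] [Fintype (X →* ℂˣ)]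
    (hc : ∀ a b : X, a * b = b * a) (f : X → ℂ) :
    f = ∑ ω : X →* ℂˣ, classInner f (lin ω) • lin ω := by
  have : Fintype (IrrCharacter X) := Fintype.ofFinite _
  conv_lhs => rw [classFunction_eq_sum (f := f) (fun g h => by rw [hc h g, mul_inv_cancel_right])]
  refine (Fintype.sum_bijective (fun ω => (⟨lin ω, lin_irr ω⟩ : IrrCharacter X)) ⟨?_, ?_⟩ _ _
    fun ω => rfl).symm
  · exact fun _ _ e => lin_injective (congrArg Subtype.val e)
  · intro χ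
    obtain ⟨l, hl⟩ := exists_hom_of_degree_one (IsIrrCharacter.isCharacter χ.2)
      (apply_one_eq_one_of_comm hc χ)
    exact ⟨l.toHomUnits, Subtype.ext (funext fun w => congrFun hl w)⟩

theorem comm_of_selfNormalizing (hW : IsSelfNormalizingCyclic W₁ W₂) (u v : ↥(W₁ ⊔ W₂)) :
    u * v = v * u := by
  haveI := hW.2.2.2.2.1
  exact IsCyclic.commGroup.mul_comm u v

namespace IsPair

variable (hP : IsPair W₁ W₂)
include hP

/-- `(1 - lfst ω) (1 - lsnd ω)`. -/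
noncomputable def alpha (ω : ↥(W₁ ⊔ W₂) →* ℂˣ) : ↥(W₁ ⊔ W₂) → ℂ :=
  fun w => 1 - (hP.lfst ω w : ℂ) - (hP.lsnd ω w : ℂ) + (hP.lfst ω w : ℂ) * (hP.lsnd ω w : ℂ)

theorem alpha_eq (ω : ↥(W₁ ⊔ W₂) →* ℂˣ) :
    hP.alpha ω = lin 1 - lin (hP.lfst ω) - lin (hP.lsnd ω) + lin ω := by
  funext w
  have : (hP.lfst ω w : ℂ) * (hP.lsnd ω w : ℂ) = ω w := by
    rw [← Units.val_mul, ← MonoidHom.mul_apply, hP.lfst_mul_lsnd]
  simp [alpha, this]

theorem alpha_apply_mem (ω : ↥(W₁ ⊔ W₂) →* ℂˣ) {w : ↥(W₁ ⊔ W₂)}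
    (hw : (w : G) ∈ W₁ ∨ (w : G) ∈ W₂) : hP.alpha ω w = 0 := by
  rcases hw with hw | hw
  · simp [alpha, hP.lsnd_apply_of_mem₁ ω hw]
  · simp [alpha, hP.lfst_apply_of_mem₂ ω hw]

theorem alpha_of_lfst_eq_one {ω : ↥(W₁ ⊔ W₂) →* ℂˣ} (h : hP.lfst ω = 1 ∨ hP.lsnd ω = 1) :
    hP.alpha ω = 0 := by
  funext w
  rcases h with h | h <;> simp [alpha, h]

/-- A function supported on `V` is a combination of the functions `alpha ω`. -/
theorem expansion_alpha [Fintype ↥(W₁ ⊔ W₂)] [Fintype (↥(W₁ ⊔ W₂) →* ℂˣ)]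
    (hc : ∀ a b : ↥(W₁ ⊔ W₂), a * b = b * a) (f : ↥(W₁ ⊔ W₂) → ℂ)
    (hf : ∀ w : ↥(W₁ ⊔ W₂), (w : G) ∈ W₁ ∨ (w : G) ∈ W₂ → f w = 0) :
    f = ∑ ω, classInner f (lin ω) • hP.alpha ω := by
  funext w
  have h : ∀ u, f u = ∑ ω : ↥(W₁ ⊔ W₂) →* ℂˣ, classInner f (lin ω) * (ω u : ℂ) := fun u => by
    conv_lhs => rw [lin_expansion hc f]
    simp
  have hz : f 1 - f (hP.p₁ w) - f (hP.p₂ w) + f w = f w := by
    rw [hf 1 (Or.inl (one_mem W₁)), hf _ (Or.inl (hP.p₁_mem w)), hf _ (Or.inr (hP.p₂_mem w))]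
    ring
  conv_lhs => rw [← hz, h 1, h (hP.p₁ w), h (hP.p₂ w), h w, ← Finset.sum_sub_distrib,
    ← Finset.sum_sub_distrib, ← Finset.sum_add_distrib]
  simp only [Finset.sum_apply, Pi.smul_apply, smul_eq_mul]
  refine Finset.sum_congr rfl fun ω _ => ?_
  rw [hP.alpha_eq]
  simp only [Pi.add_apply, Pi.sub_apply, lin_apply, MonoidHom.one_apply, map_one, Units.val_one]
  simp only [lfst, lsnd, MonoidHom.comp_apply]
  ring

end IsPair

/-! ### The TI property -/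

theorem card_coprime_free_mem [Finite G] {W K : Subgroup G} (hW : IsCyclic W) (hK : K ≤ W) {g : G}
    (hg : g ∈ W) (h : g ^ Nat.card K = 1) : g ∈ K := by
  classical
  have : Fintype W := Fintype.ofFinite W
  set d := Nat.card K
  let S : Finset W := Finset.univ.filter fun a => a ^ d = 1
  have hle : S.card ≤ d := IsCyclic.card_pow_eq_one_le Nat.card_pos
  have hsub : Finset.univ.filter (fun a : W => (a : G) ∈ K) ⊆ S := fun a ha =>
    Finset.mem_filter.mpr ⟨Finset.mem_univ _, Subtype.ext (by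
      simpa using orderOf_dvd_iff_pow_eq_one.mp
        (Subgroup.orderOf_dvd_natCard K (Finset.mem_filter.mp ha).2))⟩
  have hcard : (Finset.univ.filter fun a : W => (a : G) ∈ K).card = d := by
    rw [← Fintype.card_subtype, ← Nat.card_eq_fintype_card]
    exact Nat.card_congr
      { toFun := fun a => ⟨((a : W) : G), a.2⟩
        invFun := fun a => ⟨⟨a, hK a.2⟩, a.2⟩
        left_inv := fun _ => rfl
        right_inv := fun _ => rfl }
  have heq := Finset.eq_of_subset_of_card_le hsub (by omega)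
  have : (⟨g, hg⟩ : W) ∈ S := Finset.mem_filter.mpr ⟨Finset.mem_univ _, Subtype.ext (by simpa using h)⟩
  rw [← heq] at this
  exact (Finset.mem_filter.mp this).2

theorem centralizer_eq (hW : IsSelfNormalizingCyclic W₁ W₂) {v : G} (hv : v ∈ W₁ ⊔ W₂)
    (h₁ : v ∉ W₁) (h₂ : v ∉ W₂) : Subgroup.centralizer ({v} : Set G) = W₁ ⊔ W₂ := by
  rw [← hW.2.2.2.2.2 {v} (by simpa using ⟨hv, h₁, h₂⟩) (Set.singleton_nonempty v)]
  ext g
  rw [Subgroup.mem_centralizer_singleton_iff, Subgroup.mem_set_normalizer_iff]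
  constructor
  · intro hg y
    simp only [Set.mem_singleton_iff]
    constructor
    · rintro rfl; rw [hg, mul_inv_cancel_right]
    · intro e
      have : g * y * g⁻¹ = g * v * g⁻¹ := by rw [e, hg, mul_inv_cancel_right]
      simpa using this
  · intro h
    have := (h v).mp rfl
    simp only [Set.mem_singleton_iff] at this
    exact mul_inv_eq_iff_eq_mul.mp this

/-- `V = W \ (W₁ ∪ W₂)` is a TI set whose normaliser is `W`. -/
theorem mem_of_conj_mem [Finite G] (hW : IsSelfNormalizingCyclic W₁ W₂) {v g : G}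
    (hv : v ∈ W₁ ⊔ W₂) (h₁ : v ∉ W₁) (h₂ : v ∉ W₂) (hv' : g * v * g⁻¹ ∈ W₁ ⊔ W₂)
    (h₁' : g * v * g⁻¹ ∉ W₁) (h₂' : g * v * g⁻¹ ∉ W₂) : g ∈ W₁ ⊔ W₂ := by
  have hconj : ∀ w : G, w ∈ W₁ ⊔ W₂ ↔ g * w * g⁻¹ ∈ W₁ ⊔ W₂ := by
    intro w
    have hc := centralizer_eq hW hv h₁ h₂
    have hc' := centralizer_eq hW hv' h₁' h₂'
    conv_lhs => rw [← hc]
    rw [← hc', Subgroup.mem_centralizer_singleton_iff, Subgroup.mem_centralizer_singleton_iff]
    constructor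
    · intro h
      calc g * w * g⁻¹ * (g * v * g⁻¹) = g * (w * v) * g⁻¹ := by group
        _ = g * (v * w) * g⁻¹ := by rw [h]
        _ = _ := by group
    · intro h
      have := congrArg (fun t => g⁻¹ * t * g) h
      simpa [mul_assoc] using this
  have hinv : ∀ K : Subgroup G, K ≤ W₁ ⊔ W₂ → ∀ w : G, w ∈ K ↔ g * w * g⁻¹ ∈ K := by
    intro K hK w
    constructor
    · intro hw
      refine card_coprime_free_mem hW.2.2.2.2.1 hK ((hconj w).mp (hK hw)) ?_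
      rw [conj_pow, orderOf_dvd_iff_pow_eq_one.mp (Subgroup.orderOf_dvd_natCard K hw)]
      simp
    · intro hw
      refine card_coprime_free_mem hW.2.2.2.2.1 hK ((hconj w).mpr (hK hw)) ?_
      have := orderOf_dvd_iff_pow_eq_one.mp (Subgroup.orderOf_dvd_natCard K hw)
      rwa [conj_pow, conj_eq_one_iff] at this
  have hn : g ∈ Subgroup.normalizer ((↑(W₁ ⊔ W₂) : Set G) \ (↑W₁ ∪ ↑W₂)) := by
    rw [Subgroup.mem_set_normalizer_iff]
    intro w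
    simp only [Set.mem_sdiff, Set.mem_union, SetLike.mem_coe, ← hconj w, ← hinv W₁ le_sup_left w,
      ← hinv W₂ le_sup_right w]
  rwa [hW.2.2.2.2.2 _ subset_rfl ⟨v, hv, fun h => h.elim h₁ h₂⟩] at hn

/-- On `V` induction of a function supported on `V` changes nothing. -/
theorem indFun_eq_of_supported [Fintype G] (hW : IsSelfNormalizingCyclic W₁ W₂)
    {f : ↥(W₁ ⊔ W₂) → ℂ} (hf : ∀ w : ↥(W₁ ⊔ W₂), (w : G) ∈ W₁ ∨ (w : G) ∈ W₂ → f w = 0)
    (v : ↥(W₁ ⊔ W₂)) (h₁ : (v : G) ∉ W₁) (h₂ : (v : G) ∉ W₂) :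
    indFun (W₁ ⊔ W₂) f v = f v := by
  classical
  have hterm : ∀ x : G, extendByZero (W₁ ⊔ W₂) f (x⁻¹ * v * x) =
      if x ∈ W₁ ⊔ W₂ then f v else 0 := by
    intro x
    split_ifs with hx
    · have hvx : v * (⟨x, hx⟩ : ↥(W₁ ⊔ W₂)) = ⟨x, hx⟩ * v := comm_of_selfNormalizing hW v _
      have he : x⁻¹ * (v : G) * x = v := by
        rw [mul_assoc, show (v : G) * x = x * v from congrArg Subtype.val hvx, inv_mul_cancel_left]
      rw [he, extendByZero_coe]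
    · by_cases hm : x⁻¹ * (v : G) * x ∈ W₁ ⊔ W₂
      · rw [extendByZero_mem _ _ hm]
        apply hf
        by_contra hne
        push_neg at hne
        exact hx (mem_of_conj_mem hW hm hne.1 hne.2
          (show x * (x⁻¹ * v * x) * x⁻¹ ∈ W₁ ⊔ W₂ by simp [mul_assoc])
          (by simpa [mul_assoc] using h₁) (by simpa [mul_assoc] using h₂))
      · exact extendByZero_not_mem _ _ hm
  rw [indFun, Finset.sum_congr rfl fun x _ => hterm x, Finset.sum_ite, Finset.sum_const_zero, add_zero,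
    Finset.sum_const, nsmul_eq_mul, ← Fintype.card_subtype, ← Nat.card_eq_fintype_card, ← mul_assoc,
    inv_mul_cancel₀ (Nat.cast_ne_zero.mpr Nat.card_pos.ne'), one_mul]

/-- The key identity: pairing `θ|W` with `alpha ω`. -/
theorem inner_alpha [Fintype G] [Fintype ↥(W₁ ⊔ W₂)]
    (hP : IsPair W₁ W₂) {χ : (↥(W₁ ⊔ W₂) →* ℂˣ) → (G → ℂ)} (hχ : IsCyclicTIFamily W₁ W₂ χ)
    {θ : G → ℂ} (hθ : IsClassFunction G θ) (ω : ↥(W₁ ⊔ W₂) →* ℂˣ) :
    classInner (fun w : ↥(W₁ ⊔ W₂) => θ w) (hP.alpha ω) =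
      classInner θ (χ 1) - classInner θ (χ (hP.lfst ω)) - classInner θ (χ (hP.lsnd ω)) +
        classInner θ (χ ω) := by
  rcases eq_or_ne (hP.lfst ω) 1 with h | h
  · have hs : hP.lsnd ω = ω := by
      conv_rhs => rw [← hP.lfst_mul_lsnd ω, h]
      ext w; simp
    rw [hP.alpha_of_lfst_eq_one (Or.inl h), classInner_zero_right, h, hs]
    ring
  rcases eq_or_ne (hP.lsnd ω) 1 with h' | h'
  · have hs : hP.lfst ω = ω := by
      conv_rhs => rw [← hP.lfst_mul_lsnd ω, h']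
      ext w; simp
    rw [hP.alpha_of_lfst_eq_one (Or.inr h'), classInner_zero_right, h', hs]
    ring
  rw [← frobenius_reciprocity' (W₁ ⊔ W₂) _ hθ, show hP.alpha ω = fun w =>
      1 - (hP.lfst ω w : ℂ) - (hP.lsnd ω w : ℂ) + (hP.lfst ω w : ℂ) * (hP.lsnd ω w : ℂ) from rfl,
    hχ.induced_eq _ _ h h' (fun w hw => hP.lfst_apply_of_mem₂ ω hw)
      (fun w hw => hP.lsnd_apply_of_mem₁ ω hw), hP.lfst_mul_lsnd ω, ← classInner_sub_right,
    ← classInner_sub_right, ← classInner_add_right, hχ.map_one]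
  rfl

theorem card_monoidHom_of_comm {X : Type*} [Group X] [Finite X] (hc : ∀ a b : X, a * b = b * a) :
    Nat.card (X →* ℂˣ) = Nat.card X := by
  classical
  have : Fintype (IrrCharacter X) := Fintype.ofFinite _
  rw [Nat.card_congr (linearCharEquiv X),
    Nat.card_congr (Equiv.subtypeUnivEquiv (apply_one_eq_one_of_comm hc)),
    card_irr_eq_card_conjClasses, card_conjClasses_of_comm hc]

theorem card_lin_factor₁ [Finite G] (hP : IsPair W₁ W₂) (hc : ∀ a b : ↥(W₁ ⊔ W₂), a * b = b * a) :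
    Nat.card {φ : ↥(W₁ ⊔ W₂) →* ℂˣ // ∀ w : ↥(W₁ ⊔ W₂), (w : G) ∈ W₂ → φ w = 1} = Nat.card W₁ := by
  rw [← card_monoidHom_of_comm (X := W₁) (fun a b => Subtype.ext
    (congrArg (fun t : ↥(W₁ ⊔ W₂) => (t : G)) (hc ⟨a, Subgroup.mem_sup_left a.2⟩ ⟨b, Subgroup.mem_sup_left b.2⟩)))]
  refine Nat.card_congr
    { toFun := fun φ => φ.1.comp (Subgroup.inclusion le_sup_left)
      invFun := fun f => ⟨f.comp ((MonoidHom.fst W₁ W₂).comp hP.prodEquiv.symm.toMonoidHom),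
        fun w hw => ?_⟩
      left_inv := fun φ => Subtype.ext (MonoidHom.ext fun w => ?_)
      right_inv := fun f => MonoidHom.ext fun a => ?_ }
  · show f ((hP.prodEquiv.symm w).1) = 1
    rw [show (hP.prodEquiv.symm w).1 = 1 from
      Subtype.ext (congrArg (fun t : ↥(W₁ ⊔ W₂) => (t : G)) (hP.p₂_of_mem hw).1), map_one]
  · show φ.1 (hP.p₁ w) = φ.1 w
    conv_rhs => rw [← hP.p_mul w, map_mul, φ.2 _ (hP.p₂_mem w), mul_one]
  · show f ((hP.prodEquiv.symm (Subgroup.inclusion le_sup_left a)).1) = f a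
    exact congrArg f (Subtype.ext (congrArg (fun t : ↥(W₁ ⊔ W₂) => (t : G))
      (hP.p₁_of_mem (w := Subgroup.inclusion le_sup_left a) a.2).1))

theorem card_lin_factor₂ [Finite G] (hP : IsPair W₁ W₂) (hc : ∀ a b : ↥(W₁ ⊔ W₂), a * b = b * a) :
    Nat.card {ψ : ↥(W₁ ⊔ W₂) →* ℂˣ // ∀ w : ↥(W₁ ⊔ W₂), (w : G) ∈ W₁ → ψ w = 1} = Nat.card W₂ := by
  rw [← card_monoidHom_of_comm (X := W₂) (fun a b => Subtype.ext
    (congrArg (fun t : ↥(W₁ ⊔ W₂) => (t : G)) (hc ⟨a, Subgroup.mem_sup_right a.2⟩ ⟨b, Subgroup.mem_sup_right b.2⟩)))]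
  refine Nat.card_congr
    { toFun := fun φ => φ.1.comp (Subgroup.inclusion le_sup_right)
      invFun := fun f => ⟨f.comp ((MonoidHom.snd W₁ W₂).comp hP.prodEquiv.symm.toMonoidHom),
        fun w hw => ?_⟩
      left_inv := fun φ => Subtype.ext (MonoidHom.ext fun w => ?_)
      right_inv := fun f => MonoidHom.ext fun a => ?_ }
  · show f ((hP.prodEquiv.symm w).2) = 1
    rw [show (hP.prodEquiv.symm w).2 = 1 from
      Subtype.ext (congrArg (fun t : ↥(W₁ ⊔ W₂) => (t : G)) (hP.p₁_of_mem hw).2), map_one]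
  · show φ.1 (hP.p₂ w) = φ.1 w
    conv_rhs => rw [← hP.p_mul w, map_mul, φ.2 _ (hP.p₁_mem w), one_mul]
  · show f ((hP.prodEquiv.symm (Subgroup.inclusion le_sup_right a)).2) = f a
    exact congrArg f (Subtype.ext (congrArg (fun t : ↥(W₁ ⊔ W₂) => (t : G))
      (hP.p₂_of_mem (w := Subgroup.inclusion le_sup_right a) a.2).2))

end Cfsg.Agent.CyclicTI
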