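import Mathlib.Data.Finset.Card
import Mathlib.Data.Fintype.Card
import Mathlib.SetTheory.Cardinal.Finite
import Mathlib.Data.Fintype.EquivFin
import Mathlib.Algebra.Group.Defs
import Mathlib.Algebra.Group.Basic
import Mathlib.Algebra.Ring.Parity
import Cfsg.Agent.EqLemmas

/-!
The combinatorics behind the cyclic TI isometry: a grid of triples of signed points, where
triples on one line share exactly one point and other pairs share points with cancelling signs.

* `Triple`, `Adj`, `Orth` : the relations between triples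
* `concurrent` : four triples of a row have a common point as soon as there is a second row
* `grid` : the grid is `{a i, b j, c i j}` with all these points different up to sign
-/
set_option autoImplicit false

namespace Cfsg.Agent.CyclicTI.Grid

variable {P : Type*} [InvolutiveNeg P]

/-- A triple without opposite points. -/
structure Triple (S : Finset P) : Prop where
  card : S.card = 3
  no_neg : ∀ x ∈ S, -x ∉ S

/-- Exactly one common point and no opposite ones. -/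
structure Adj (S T : Finset P) : Prop where
  ex : ∃ x, x ∈ S ∧ x ∈ T
  uniq : ∀ x y, x ∈ S → x ∈ T → y ∈ S → y ∈ T → x = y
  no_neg : ∀ x, x ∈ S → -x ∉ T

/-- Common and opposite points come together. -/
structure Orth (S T : Finset P) : Prop where
  uniq : ∀ x y, x ∈ S → x ∈ T → y ∈ S → y ∈ T → x = y
  opp : ∀ x, x ∈ S → x ∈ T → ∃ y, y ∈ S ∧ -y ∈ T
  com : ∀ y, y ∈ S → -y ∈ T → ∃ x, x ∈ S ∧ x ∈ T

theorem Adj.symm {S T : Finset P} (h : Adj S T) : Adj T S where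
  ex := h.ex.imp fun _ hx => ⟨hx.2, hx.1⟩
  uniq x y a b c d := h.uniq x y b a d c
  no_neg x hx hx' := h.no_neg (-x) hx' (by rwa [neg_neg])

theorem Orth.symm {S T : Finset P} (h : Orth S T) : Orth T S where
  uniq x y a b c d := h.uniq x y b a d c
  opp x hx hx' := by
    obtain ⟨y, h1, h2⟩ := h.opp x hx' hx
    exact ⟨-y, h2, by rwa [neg_neg]⟩
  com y hy hy' := by
    obtain ⟨x, h1, h2⟩ := h.com (-y) hy' (by rwa [neg_neg])
    exact ⟨x, h2, h1⟩

theorem four {S : Finset P} (hS : Triple S) {x y z w : P} (hx : x ∈ S) (hy : y ∈ S) (hz : z ∈ S)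
    (hw : w ∈ S) (h1 : x ≠ y) (h2 : x ≠ z) (h3 : x ≠ w) (h4 : y ≠ z) (h5 : y ≠ w) (h6 : z ≠ w) :
    False := by
  classical
  have h : ({x, y, z, w} : Finset P).card ≤ S.card := Finset.card_le_card (by
    simp [Finset.insert_subset_iff, hx, hy, hz, hw])
  rw [hS.card] at h
  simp [h1, h2, h3, h4, h5, h6] at h

theorem three {S : Finset P} (hS : Triple S) {x y z : P} (hx : x ∈ S) (hy : y ∈ S) (hz : z ∈ S)
    (h1 : x ≠ y) (h2 : x ≠ z) (h4 : y ≠ z) {w : P} (hw : w ∈ S) : w = x ∨ w = y ∨ w = z := by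
  by_contra h
  push Not at h
  exact four hS hx hy hz hw h1 h2 (Ne.symm h.1) h4 (Ne.symm h.2.1) (Ne.symm h.2.2)

theorem third {S : Finset P} (hS : Triple S) {x y : P} (hx : x ∈ S) (hy : y ∈ S) (h : x ≠ y) :
    ∃ z ∈ S, z ≠ x ∧ z ≠ y ∧ ∀ w ∈ S, w = x ∨ w = y ∨ w = z := by
  classical
  obtain ⟨z, hz, hz'⟩ := Finset.exists_mem_notMem_of_card_lt_card
    (show ({x, y} : Finset P).card < S.card by rw [hS.card, Finset.card_pair h]; omega)
  simp only [Finset.mem_insert, Finset.mem_singleton, not_or] at hz'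
  exact ⟨z, hz, hz'.1, hz'.2, fun w hw => three hS hx hy hz h (Ne.symm hz'.1) (Ne.symm hz'.2) hw⟩

/-! ### Four triples of a row against four triples of another row -/

/-- Two rows of triples. -/
structure Quad {κ : Type*} (L M : κ → Finset P) : Prop where
  tL : ∀ l, Triple (L l)
  tM : ∀ l, Triple (M l)
  adjL : ∀ l m, l ≠ m → Adj (L l) (L m)
  adjM : ∀ l m, l ≠ m → Adj (M l) (M m)
  adj : ∀ l, Adj (M l) (L l)
  orth : ∀ l m, l ≠ m → Orth (M l) (L m)

section Quad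

variable {κ : Type*} {L M : κ → Finset P} (hQ : Quad L M)
include hQ

/-- Without triple points every point of a line lies on another one. -/
theorem cover {l m n o : κ} (hlm : l ≠ m) (hln : l ≠ n) (hlo : l ≠ o)
    (g₁ : ∀ y, y ∈ L l → y ∈ L m → y ∉ L n) (g₂ : ∀ y, y ∈ L l → y ∈ L m → y ∉ L o)
    (g₃ : ∀ y, y ∈ L l → y ∈ L n → y ∉ L o) {y : P} (hy : y ∈ L l) :
    y ∈ L m ∨ y ∈ L n ∨ y ∈ L o := by
  obtain ⟨a, ha, ha'⟩ := (hQ.adjL l m hlm).ex
  obtain ⟨b, hb, hb'⟩ := (hQ.adjL l n hln).ex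
  obtain ⟨c, hc, hc'⟩ := (hQ.adjL l o hlo).ex
  rcases three (hQ.tL l) ha hb hc (fun e => g₁ a ha ha' (e ▸ hb')) (fun e => g₂ a ha ha' (e ▸ hc'))
    (fun e => g₃ b hb hb' (e ▸ hc')) hy with rfl | rfl | rfl
  · exact Or.inl ha'
  · exact Or.inr (Or.inl hb')
  · exact Or.inr (Or.inr hc')

/-- The core of the general position case. -/
theorem no_general_core {A B C D : κ} (hAB : A ≠ B) (hAC : A ≠ C) (hAD : A ≠ D) (hBC : B ≠ C)
    (hBD : B ≠ D) (hCD : C ≠ D) (g₁ : ∀ y, y ∈ L A → y ∈ L B → y ∉ L C)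
    (g₃ : ∀ y, y ∈ L A → y ∈ L C → y ∉ L D)
    (g₄ : ∀ y, y ∈ L B → y ∈ L C → y ∉ L D) {y s : P} (hyM : y ∈ M A) (hyA : y ∈ L A) (hyB : y ∈ L B)
    (hsM : s ∈ M A) (hsB : -s ∈ L B) (hsC : -s ∈ L C) : False := by
  obtain ⟨t, htM, htC⟩ := (hQ.orth A C hAC).com s hsM hsC
  have hty : t ≠ y := fun e => g₁ y hyA hyB (e ▸ htC)
  rcases cover hQ (l := C) (m := A) (n := B) (o := D) hAC.symm hBC.symm hCD
    (fun y h1 h2 h3 => g₁ y h2 h3 h1) (fun y h1 h2 h3 => g₃ y h2 h1 h3)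
    (fun y h1 h2 h3 => g₄ y h2 h1 h3) htC with h | h | h
  · exact hty ((hQ.adj A).uniq t y htM h hyM hyA)
  · exact hty ((hQ.orth A B hAB).uniq t y htM h hyM hyB)
  · obtain ⟨r, hrM, hrD⟩ := (hQ.orth A D hAD).opp t htM h
    refine four (hQ.tM A) hyM hsM htM hrM ?_ hty.symm ?_ ?_ ?_ ?_
    · rintro rfl; exact (hQ.tL B).no_neg y hyB hsB
    · rintro rfl; exact (hQ.adjL A D hAD).no_neg y hyA hrD
    · rintro rfl; exact (hQ.tL C).no_neg s htC hsC
    · rintro rfl; exact g₄ _ hsB hsC hrD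
    · rintro rfl; exact (hQ.tL D).no_neg t h hrD

theorem no_general_aux {A B C D : κ} (hAB : A ≠ B) (hAC : A ≠ C) (hAD : A ≠ D) (hBC : B ≠ C)
    (hBD : B ≠ D) (hCD : C ≠ D) (g₁ : ∀ y, y ∈ L A → y ∈ L B → y ∉ L C)
    (g₂ : ∀ y, y ∈ L A → y ∈ L B → y ∉ L D) (g₃ : ∀ y, y ∈ L A → y ∈ L C → y ∉ L D)
    (g₄ : ∀ y, y ∈ L B → y ∈ L C → y ∉ L D) {y : P} (hyM : y ∈ M A) (hyA : y ∈ L A)
    (hyB : y ∈ L B) : False := by
  obtain ⟨s, hsM, hsB⟩ := (hQ.orth A B hAB).opp y hyM hyB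
  rcases cover hQ (l := B) (m := A) (n := C) (o := D) hAB.symm hBC hBD
    (fun y h1 h2 h3 => g₁ y h2 h1 h3) (fun y h1 h2 h3 => g₂ y h2 h1 h3)
    (fun y h1 h2 h3 => g₄ y h1 h2 h3) hsB with h | h | h
  · exact (hQ.adj A).no_neg s hsM h
  · exact no_general_core hQ hAB hAC hAD hBC hBD hCD g₁ g₃ g₄ hyM hyA hyB hsM hsB h
  · exact no_general_core hQ hAB hAD hAC hBD hBC hCD.symm g₂ (fun y h1 h2 h3 => g₃ y h1 h3 h2)
      (fun y h1 h2 h3 => g₄ y h1 h3 h2) hyM hyA hyB hsM hsB h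

theorem no_general {A B C D : κ} (hAB : A ≠ B) (hAC : A ≠ C) (hAD : A ≠ D) (hBC : B ≠ C)
    (hBD : B ≠ D) (hCD : C ≠ D) (g₁ : ∀ y, y ∈ L A → y ∈ L B → y ∉ L C)
    (g₂ : ∀ y, y ∈ L A → y ∈ L B → y ∉ L D) (g₃ : ∀ y, y ∈ L A → y ∈ L C → y ∉ L D)
    (g₄ : ∀ y, y ∈ L B → y ∈ L C → y ∉ L D) : False := by
  obtain ⟨y, hyM, hyA⟩ := (hQ.adj A).ex
  rcases cover hQ hAB hAC hAD g₁ g₂ g₃ hyA with h | h | h
  · exact no_general_aux hQ hAB hAC hAD hBC hBD hCD g₁ g₂ g₃ g₄ hyM hyA h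
  · exact no_general_aux hQ hAC hAB hAD hBC.symm hCD hBD (fun y h1 h2 h3 => g₁ y h1 h3 h2) g₃ g₂
      (fun y h1 h2 h3 => g₄ y h2 h1 h3) hyM hyA h
  · exact no_general_aux hQ hAD hAB hAC hBD.symm hCD.symm hBC (fun y h1 h2 h3 => g₂ y h1 h3 h2)
      (fun y h1 h2 h3 => g₃ y h1 h3 h2) g₁ (fun y h1 h2 h3 => g₄ y h2 h3 h1) hyM hyA h

/-- A configuration with one triple point, last case. -/
theorem no_star_last {A B C D : κ} (hAB : A ≠ B) (hAC : A ≠ C) (hAD : A ≠ D) (hBC : B ≠ C)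
    (hCD : C ≠ D) {x p q r : P} (hxA : x ∈ L A) (hxB : x ∈ L B) (hxC : x ∈ L C)
    (hxD : x ∉ L D) (hpA : p ∈ L A) (hpD : p ∈ L D) (hqB : q ∈ L B) (hqD : q ∈ L D)
    (hrC : r ∈ L C) (hrD : r ∈ L D) (hpM : p ∈ M A) (hqM : -q ∈ M A) : False := by
  have hxp : x ≠ p := fun e => hxD (e ▸ hpD)
  have hxq : x ≠ q := fun e => hxD (e ▸ hqD)
  have hxr : x ≠ r := fun e => hxD (e ▸ hrD)
  have hpq : p ≠ q := fun e => hxp ((hQ.adjL A B hAB).uniq x p hxA hxB hpA (e ▸ hqB))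
  have hpr : p ≠ r := fun e => hxp ((hQ.adjL A C hAC).uniq x p hxA hxC hpA (e ▸ hrC))
  have hqr : q ≠ r := fun e => hxq ((hQ.adjL B C hBC).uniq x q hxB hxC hqB (e ▸ hrC))
  obtain ⟨a, haA, hax, hap, hAall⟩ := third (hQ.tL A) hxA hpA hxp
  obtain ⟨b, hbB, hbx, hbq, hBall⟩ := third (hQ.tL B) hxB hqB hxq
  obtain ⟨c, hcC, hcx, hcr, hCall⟩ := third (hQ.tL C) hxC hrC hxr
  have hDall := fun w (hw : w ∈ L D) => three (hQ.tL D) hpD hqD hrD hpq hpr hqr hw
  have hbM : b ∈ M A := by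
    obtain ⟨t, htM, htB⟩ := (hQ.orth A B hAB).com (-q) hqM (by rwa [neg_neg])
    rcases hBall t htB with e | e | e <;> subst e
    · exact absurd ((hQ.adj A).uniq _ _ htM hxA hpM hpA) hxp
    · exact absurd hqM ((hQ.tM A).no_neg _ htM)
    · exact htM
  have hpnq : p ≠ -q := fun e => (hQ.tL D).no_neg q hqD (e ▸ hpD)
  have hpb : p ≠ b := fun e => hxp ((hQ.adjL A B hAB).uniq x p hxA hxB hpA (e ▸ hbB))
  have hqb : -q ≠ b := fun e => (hQ.tL B).no_neg q hqB (e ▸ hbB)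
  have hMA := fun w (hw : w ∈ M A) => three (hQ.tM A) hpM hqM hbM hpnq hpb hqb hw
  have hAC' := hQ.adjM C A hAC.symm
  have hnp : ∀ w, w ∈ M C → -w ≠ p := fun w hw e => hAC'.no_neg w hw (e ▸ hpM)
  have hnb : ∀ w, w ∈ M C → -w ≠ b := fun w hw e => hAC'.no_neg w hw (e ▸ hbM)
  have hnq : q ∉ M C := fun h => hAC'.no_neg q h hqM
  obtain ⟨y, hyM, hyC⟩ := (hQ.adj C).ex
  rcases hCall y hyC with e | e | e
  · subst e
    obtain ⟨s, hsM, hsA⟩ := (hQ.orth C A hAC.symm).opp _ hyM hxA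
    obtain ⟨u, huM, huB⟩ := (hQ.orth C B hBC.symm).opp _ hyM hxB
    have hs : -s = a := by
      rcases hAall _ hsA with e | e | e
      · exact absurd (show -s ∈ M C from e.symm ▸ hyM) ((hQ.tM C).no_neg s hsM)
      · exact absurd e (hnp s hsM)
      · exact e
    have hu : -u = q := by
      rcases hBall _ huB with e | e | e
      · exact absurd (show -u ∈ M C from e.symm ▸ hyM) ((hQ.tM C).no_neg u huM)
      · exact e
      · exact absurd e (hnb u huM)
    obtain ⟨t, htM, htD⟩ := (hQ.orth C D hCD).com u huM (hu ▸ hqD)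
    rcases hDall t htD with e | e | e <;> subst e
    · refine four (hQ.tM C) hyM hsM huM htM ?_ ?_ hxp ?_ ?_ ?_
      · intro e; exact (hQ.tL A).no_neg _ hxA (e ▸ hsA)
      · intro e; exact (hQ.tL B).no_neg _ hxB (e ▸ huB)
      · intro e
        have : a = q := by rw [← hs, ← hu, e]
        exact hxq ((hQ.adjL A B hAB).uniq _ q hxA hxB (this ▸ haA) hqB)
      · intro e; exact (hQ.tL A).no_neg _ hpA (e ▸ hsA)
      · intro e; exact (hQ.tL D).no_neg _ hpD (e ▸ hu.symm ▸ hqD)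
    · exact hnq htM
    · exact hxr ((hQ.adj C).uniq _ _ hyM hxC htM hrC)
  · subst e
    obtain ⟨s, hsM, hsD⟩ := (hQ.orth C D hCD).opp _ hyM hrD
    have hs : -s = q := by
      rcases hDall _ hsD with e | e | e
      · exact absurd e (hnp s hsM)
      · exact e
      · exact absurd (show -s ∈ M C from e.symm ▸ hyM) ((hQ.tM C).no_neg s hsM)
    obtain ⟨t, htM, htB⟩ := (hQ.orth C B hBC.symm).com s hsM (hs ▸ hqB)
    rcases hBall t htB with e | e | e <;> subst e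
    · exact hxr ((hQ.adj C).uniq _ _ htM hxC hyM hrC)
    · exact hnq htM
    · have hsA : s ∈ M A := by
        have : s = -q := by rw [← hs, neg_neg]
        exact this ▸ hqM
      have := hAC'.uniq _ _ hsM hsA htM hbM
      exact (hQ.tL B).no_neg _ htB (this ▸ hs.symm ▸ hqB)
  · subst e
    obtain ⟨u, huC, huA⟩ := hAC'.ex
    rcases hMA u huA with e | e | e <;> subst e
    · obtain ⟨s, hsM, hsA⟩ := (hQ.orth C A hAC.symm).opp _ huC hpA
      obtain ⟨v, hvM, hvD⟩ := (hQ.orth C D hCD).opp _ huC hpD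
      have hs : -s = a := by
        rcases hAall _ hsA with e | e | e
        · exact absurd (show -s ∈ L C from e.symm ▸ hxC) ((hQ.adj C).no_neg s hsM)
        · exact absurd e (hnp s hsM)
        · exact e
      have hv : -v = q := by
        rcases hDall _ hvD with e | e | e
        · exact absurd e (hnp v hvM)
        · exact e
        · exact absurd (show -v ∈ L C from e.symm ▸ hrC) ((hQ.adj C).no_neg v hvM)
      refine four (hQ.tM C) hyM huC hsM hvM ?_ ?_ ?_ ?_ ?_ ?_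
      · intro e; exact hxp ((hQ.adjL A C hAC).uniq x _ hxA hxC hpA (e ▸ hyC))
      · intro e; exact (hQ.adjL C A hAC.symm).no_neg _ hyC (e ▸ hsA)
      · intro e; exact (hQ.adjL C B hBC.symm).no_neg _ hyC (e ▸ hv.symm ▸ hqB)
      · intro e; exact (hQ.tL A).no_neg _ hpA (e ▸ hsA)
      · intro e; exact (hQ.tL D).no_neg _ hpD (e ▸ hvD)
      · intro e
        have : a = q := by rw [← hs, ← hv, e]
        exact hxq ((hQ.adjL A B hAB).uniq _ q hxA hxB (this ▸ haA) hqB)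
    · obtain ⟨t, htM, htD⟩ := (hQ.orth C D hCD).com _ huC (by rwa [neg_neg])
      rcases hDall t htD with e | e | e <;> subst e
      · exact hpnq (hAC'.uniq _ _ htM hpM huC hqM)
      · exact hnq htM
      · exact hcr ((hQ.adj C).uniq _ _ hyM hyC htM hrC)
    · obtain ⟨s, hsM, hsB⟩ := (hQ.orth C B hBC.symm).opp _ huC hbB
      rcases hBall _ hsB with e | e | e
      · exact (hQ.adj C).no_neg s hsM (e.symm ▸ hxC)
      · have hsA : s ∈ M A := by
          have : s = -q := by rw [← e, neg_neg]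
          exact this ▸ hqM
        have := hAC'.uniq _ _ hsM hsA huC hbM
        exact (hQ.tL B).no_neg _ hbB (this ▸ e.symm ▸ hqB)
      · exact hnb s hsM e

/-- A configuration with one triple point, one normalised point. -/
theorem no_star_aux {A B C D : κ} (hAB : A ≠ B) (hAC : A ≠ C) (hAD : A ≠ D) (hBC : B ≠ C)
    (hBD : B ≠ D) (hCD : C ≠ D) {x p q r : P} (hxA : x ∈ L A) (hxB : x ∈ L B) (hxC : x ∈ L C)
    (hxD : x ∉ L D) (hpA : p ∈ L A) (hpD : p ∈ L D) (hqB : q ∈ L B) (hqD : q ∈ L D)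
    (hrC : r ∈ L C) (hrD : r ∈ L D) (hpM : p ∈ M D) : False := by
  have hxp : x ≠ p := fun e => hxD (e ▸ hpD)
  have hxq : x ≠ q := fun e => hxD (e ▸ hqD)
  have hxr : x ≠ r := fun e => hxD (e ▸ hrD)
  have hpq : p ≠ q := fun e => hxp ((hQ.adjL A B hAB).uniq x p hxA hxB hpA (e ▸ hqB))
  have hpr : p ≠ r := fun e => hxp ((hQ.adjL A C hAC).uniq x p hxA hxC hpA (e ▸ hrC))
  have hqr : q ≠ r := fun e => hxq ((hQ.adjL B C hBC).uniq x q hxB hxC hqB (e ▸ hrC))
  obtain ⟨a, haA, hax, hap, hAall⟩ := third (hQ.tL A) hxA hpA hxp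
  obtain ⟨b, hbB, hbx, hbq, hBall⟩ := third (hQ.tL B) hxB hqB hxq
  obtain ⟨c, hcC, hcx, hcr, hCall⟩ := third (hQ.tL C) hxC hrC hxr
  have hDall := fun w (hw : w ∈ L D) => three (hQ.tL D) hpD hqD hrD hpq hpr hqr hw
  obtain ⟨s, hsM, hsA⟩ := (hQ.orth D A hAD.symm).opp p hpM hpA
  have hs : -s = a := by
    rcases hAall _ hsA with e | e | e
    · exfalso
      obtain ⟨t, htM, htB⟩ := (hQ.orth D B hBD.symm).com s hsM (e.symm ▸ hxB)
      obtain ⟨u, huM, huC⟩ := (hQ.orth D C hCD.symm).com s hsM (e.symm ▸ hxC)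
      refine four (hQ.tM D) hpM hsM htM huM ?_ ?_ ?_ ?_ ?_ ?_
      · intro h; subst h; exact (hQ.tL A).no_neg _ hpA hsA
      · intro h; subst h; exact hxp ((hQ.adjL A B hAB).uniq x p hxA hxB hpA htB)
      · intro h; subst h; exact hxp ((hQ.adjL A C hAC).uniq x p hxA hxC hpA huC)
      · intro h; subst h; exact (hQ.tL B).no_neg _ htB (e.symm ▸ hxB)
      · intro h; subst h; exact (hQ.tL C).no_neg _ huC (e.symm ▸ hxC)
      · intro h; subst h
        have := (hQ.adjL B C hBC).uniq t x htB huC hxB hxC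
        subst this
        exact (hQ.tM D).no_neg s hsM (e.symm ▸ htM)
    · exact absurd (show -s ∈ M D from e.symm ▸ hpM) ((hQ.tM D).no_neg s hsM)
    · exact e
  -- `M D` avoids `B` and `C`
  have avoid : ∀ N, A ≠ N → D ≠ N → x ∈ L N → ∀ t ∈ M D, t ∉ L N ∧ -t ∉ L N := by
    intro N hAN hDN hxN
    have key : ∀ t ∈ M D, t ∉ L N := by
      intro t htM htN
      obtain ⟨u, huM, huN⟩ := (hQ.orth D N hDN).opp t htM htN
      refine four (hQ.tM D) hpM hsM htM huM ?_ ?_ ?_ ?_ ?_ ?_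
      · intro h; subst h; exact (hQ.tL A).no_neg _ hpA hsA
      · intro h; subst h; exact hxp ((hQ.adjL A N hAN).uniq x p hxA hxN hpA htN)
      · intro h; subst h; exact (hQ.adjL A N hAN).no_neg _ hpA huN
      · intro h; subst h; exact (hQ.adjL N A hAN.symm).no_neg _ htN hsA
      · intro h; subst h
        exact hax (hs ▸ (hQ.adjL A N hAN).uniq _ x hsA huN hxA hxN)
      · intro h; subst h; exact (hQ.tL N).no_neg _ htN huN
    intro t ht
    refine ⟨key t ht, fun h => ?_⟩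
    obtain ⟨u, huM, huN⟩ := (hQ.orth D N hDN).com t ht h
    exact key u huM huN
  obtain ⟨y, hyM, hyA⟩ := (hQ.adj A).ex
  rcases hAall y hyA with e | e | e
  · subst e
    obtain ⟨u, huM, huB⟩ := (hQ.orth A B hAB).opp _ hyM hxB
    obtain ⟨v, hvM, hvC⟩ := (hQ.orth A C hAC).opp _ hyM hxC
    have third_eq : ∀ N (z : P), A ≠ N → N ∈ [B, C] → z ∈ M A → -z ∈ L N → -z ≠ q ∨ N ≠ B := by
      intro N z _ _ hz _
      by_cases hN : N = B
      · refine Or.inl fun e => ?_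
        obtain ⟨t, htM, htD⟩ := (hQ.orth A D hAD).com z hz (e.symm ▸ hqD)
        rcases hDall t htD with e' | e' | e' <;> subst e'
        · exact hxp ((hQ.adj A).uniq _ _ hyM hxA htM hpA)
        · exact (hQ.tM A).no_neg z hz (e.symm ▸ htM)
        · exact hxr ((hQ.orth A C hAC).uniq _ _ hyM hxC htM hrC)
      · exact Or.inr hN
    have hv : -v ≠ r := by
      intro e
      obtain ⟨t, htM, htD⟩ := (hQ.orth A D hAD).com v hvM (e.symm ▸ hrD)
      rcases hDall t htD with e' | e' | e' <;> subst e'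
      · exact hxp ((hQ.adj A).uniq _ _ hyM hxA htM hpA)
      · exact hxq ((hQ.orth A B hAB).uniq _ _ hyM hxB htM hqB)
      · exact (hQ.tM A).no_neg v hvM (e.symm ▸ htM)
    have hub : -u = b := by
      rcases hBall _ huB with e | e | e
      · exact absurd (show -u ∈ M A from e.symm ▸ hyM) ((hQ.tM A).no_neg u huM)
      · exact absurd e ((third_eq B u hAB (by simp) huM huB).resolve_right (by simp))
      · exact e
    obtain ⟨w, hwA, hwD⟩ := (hQ.adjM A D hAD).ex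
    have hall := fun w (hw : w ∈ M A) => three (hQ.tM A) hyM huM hvM
      (fun h => (hQ.tL B).no_neg _ hxB (h ▸ huB)) (fun h => (hQ.tL C).no_neg _ hxC (h ▸ hvC))
      (fun h => hbx (hub ▸ (hQ.adjL B C hBC).uniq _ _ huB (h ▸ hvC) hxB hxC)) hw
    rcases hall w hwA with e | e | e <;> subst e
    · exact (avoid B hAB hBD.symm hxB _ hwD).1 hxB
    · exact (avoid B hAB hBD.symm hxB _ hwD).2 huB
    · exact (avoid C hAC hCD.symm hxC _ hwD).2 hvC
  · subst e
    obtain ⟨u, huM, huD⟩ := (hQ.orth A D hAD).opp _ hyM hpD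
    rcases hDall _ huD with e | e | e
    · exact (hQ.tM A).no_neg u huM (e.symm ▸ hyM)
    · refine no_star_last hQ hAB hAC hAD hBC hCD hxA hxB hxC hxD hpA hpD hqB hqD hrC hrD hyM ?_
      rw [← e, neg_neg]; exact huM
    · refine no_star_last hQ hAC hAB hAD hBC.symm hBD hxA hxC hxB hxD hpA hpD hrC hrD hqB hqD hyM ?_
      rw [← e, neg_neg]; exact huM
  · subst e
    refine (hQ.adjM A D hAD).no_neg _ hyM ?_
    rw [← hs, neg_neg]; exact hsM

theorem no_star {A B C D : κ} (hAB : A ≠ B) (hAC : A ≠ C) (hAD : A ≠ D) (hBC : B ≠ C)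
    (hBD : B ≠ D) (hCD : C ≠ D) {x : P} (hxA : x ∈ L A) (hxB : x ∈ L B) (hxC : x ∈ L C) :
    x ∈ L D := by
  by_contra hxD
  obtain ⟨p, hpA, hpD⟩ := (hQ.adjL A D hAD).ex
  obtain ⟨q, hqB, hqD⟩ := (hQ.adjL B D hBD).ex
  obtain ⟨r, hrC, hrD⟩ := (hQ.adjL C D hCD).ex
  have hpq : p ≠ q := fun e => hxD ((hQ.adjL A B hAB).uniq x p hxA hxB hpA (e ▸ hqB) ▸ hpD)
  have hpr : p ≠ r := fun e => hxD ((hQ.adjL A C hAC).uniq x p hxA hxC hpA (e ▸ hrC) ▸ hpD)
  have hqr : q ≠ r := fun e => hxD ((hQ.adjL B C hBC).uniq x q hxB hxC hqB (e ▸ hrC) ▸ hqD)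
  obtain ⟨y, hyM, hyD⟩ := (hQ.adj D).ex
  rcases three (hQ.tL D) hpD hqD hrD hpq hpr hqr hyD with e | e | e <;> subst e
  · exact no_star_aux hQ hAB hAC hAD hBC hBD hCD hxA hxB hxC hxD hpA hpD hqB hqD hrC hrD hyM
  · exact no_star_aux hQ hAB.symm hBC hBD hAC hAD hCD hxB hxA hxC hxD hqB hqD hpA hpD hrC hrD hyM
  · exact no_star_aux hQ hBC.symm hAC.symm hCD hAB.symm hBD hAD hxC hxB hxA hxD hrC hrD hqB hqD hpA hpD hyM

/-- Four triples of one row are concurrent. -/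
theorem concurrent {A B C D : κ} (hAB : A ≠ B) (hAC : A ≠ C) (hAD : A ≠ D) (hBC : B ≠ C)
    (hBD : B ≠ D) (hCD : C ≠ D) : ∃ x, x ∈ L A ∧ x ∈ L B ∧ x ∈ L C ∧ x ∈ L D := by
  by_contra h
  push Not at h
  refine no_general hQ hAB hAC hAD hBC hBD hCD ?_ ?_ ?_ ?_
  · exact fun y a b c => h y a b c (no_star hQ hAB hAC hAD hBC hBD hCD a b c)
  · exact fun y a b d => h y a b (no_star hQ hAB hAD hAC hBD hBC hCD.symm a b d) d
  · exact fun y a c d => h y a (no_star hQ hAC hAD hAB hCD hBC.symm hBD.symm a c d) c d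
  · exact fun y b c d => h y (no_star hQ hBC hBD hAB.symm hCD hAC.symm hAD.symm b c d) b c d

end Quad

/-! ### The grid -/

/-- The hypotheses on a grid of triples. -/
structure IsGrid {I J : Type*} (S : I → J → Finset P) : Prop where
  triple : ∀ i j, Triple (S i j)
  row : ∀ i j l, j ≠ l → Adj (S i j) (S i l)
  col : ∀ i k j, i ≠ k → Adj (S i j) (S k j)
  off : ∀ i k j l, i ≠ k → j ≠ l → Orth (S i j) (S k l)

theorem IsGrid.transpose {I J : Type*} {S : I → J → Finset P} (h : IsGrid S) :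
    IsGrid (fun j i => S i j) where
  triple j i := h.triple i j
  row j i k hik := h.col i k j hik
  col j l i hjl := h.row i j l hjl
  off j l i k hjl hik := h.off i k j l hik hjl

/-- Each row has a centre. -/
theorem exists_centre {I J : Type*} [Finite J] {S : I → J → Finset P} (h : IsGrid S)
    (hI : ∀ i : I, ∃ k, k ≠ i) (hJ2 : 2 ≤ Nat.card J) (hJ : Even (Nat.card J)) (i : I) :
    ∃ a, ∀ j, a ∈ S i j := by
  classical
  haveI := Fintype.ofFinite J
  rw [Nat.card_eq_fintype_card] at hJ2 hJ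
  obtain ⟨k, hk⟩ := hI i
  obtain ⟨A, B, hAB⟩ := Fintype.one_lt_card_iff.mp (show 1 < Fintype.card J by omega)
  obtain ⟨a, haA, haB⟩ := (h.row i A B hAB).ex
  refine ⟨a, fun j => ?_⟩
  by_contra hj
  have hjA : A ≠ j := fun e => hj (e ▸ haA)
  have hjB : B ≠ j := fun e => hj (e ▸ haB)
  have h4 : 4 ≤ Fintype.card J := by
    obtain ⟨c, hc⟩ := hJ
    have : 2 < Fintype.card J := Fintype.two_lt_card_iff.mpr ⟨A, B, j, hAB, hjA, hjB⟩
    omega
  obtain ⟨D, -, hD⟩ := Finset.exists_mem_notMem_of_card_lt_card (s := ({A, B, j} : Finset J))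
    (t := Finset.univ) (by
      have := Finset.card_le_three (a := A) (b := B) (c := j)
      rw [Finset.card_univ]; omega)
  simp only [Finset.mem_insert, Finset.mem_singleton, not_or] at hD
  have hQ : Quad (S i) (S k) := ⟨h.triple i, h.triple k, h.row i, h.row k, fun l => h.col k i l hk,
    fun l m hlm => h.off k i l m hk hlm⟩
  obtain ⟨x, hx1, hx2, hx3, -⟩ := concurrent hQ hAB hjA (Ne.symm hD.1) hjB (Ne.symm hD.2.1) (Ne.symm hD.2.2)
  exact hj ((h.row i A B hAB).uniq x a hx1 hx2 haA haB ▸ hx3)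

/-- The structure of a grid. -/
theorem grid {I J : Type*} [Finite I] [Finite J] {S : I → J → Finset P} (h : IsGrid S)
    (hI : Even (Nat.card I)) (hI2 : 2 ≤ Nat.card I) (hJ : Even (Nat.card J)) (hJ4 : 4 ≤ Nat.card J) :
    ∃ (a : I → P) (b : J → P) (c : I → J → P),
      (∀ i j, a i ∈ S i j ∧ b j ∈ S i j ∧ c i j ∈ S i j) ∧
      (∀ i j, a i ≠ b j ∧ a i ≠ c i j ∧ b j ≠ c i j) ∧
      (∀ i k j, k ≠ i → a i ∉ S k j ∧ -a i ∉ S k j) ∧
      (∀ i j l, l ≠ j → b j ∉ S i l ∧ -b j ∉ S i l) ∧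
      (∀ i j k l, k ≠ i ∨ l ≠ j → c i j ∉ S k l ∧ -c i j ∉ S k l) := by
  classical
  haveI := Fintype.ofFinite I
  haveI := Fintype.ofFinite J
  haveI : Nontrivial I := Fintype.one_lt_card_iff_nontrivial.mp (by rw [← Nat.card_eq_fintype_card]; omega)
  haveI : Nontrivial J := Fintype.one_lt_card_iff_nontrivial.mp (by rw [← Nat.card_eq_fintype_card]; omega)
  choose a ha using exists_centre h exists_ne (by omega) hJ
  choose b hb using exists_centre h.transpose exists_ne hI2 hI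
  have others : ∀ j l : J, ∃ m₁ m₂ m₃ : J, m₁ ≠ l ∧ m₂ ≠ l ∧ m₃ ≠ l ∧ m₁ ≠ m₂ ∧ m₁ ≠ m₃ ∧ m₂ ≠ m₃ := by
    intro _ l
    have : 2 < (Finset.univ.erase l).card := by
      rw [Finset.card_erase_of_mem (Finset.mem_univ l), Finset.card_univ, ← Nat.card_eq_fintype_card]
      omega
    obtain ⟨m₁, m₂, m₃, h1, h2, h3, h12, h13, h23⟩ := Finset.two_lt_card_iff.mp this
    exact ⟨m₁, m₂, m₃, Finset.ne_of_mem_erase h1, Finset.ne_of_mem_erase h2, Finset.ne_of_mem_erase h3,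
      h12, h13, h23⟩
  -- the centres of the rows avoid other rows
  have ha1 : ∀ i k l, k ≠ i → a i ∉ S k l := by
    intro i k l hki hal
    obtain ⟨m₁, m₂, m₃, h1, h2, h3, h12, h13, h23⟩ := others l l
    choose y hy hy' using fun (m : J) (hm : m ≠ l) => (h.off k i l m hki (Ne.symm hm)).opp (a i) hal (ha i m)
    have hne : ∀ m (hm : m ≠ l), a i ≠ y m hm := fun m hm e =>
      (h.triple i m).no_neg _ (ha i m) (e ▸ hy' m hm)
    have hinj : ∀ m n (hm : m ≠ l) (hn : n ≠ l), m ≠ n → y m hm ≠ y n hn := by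
      intro m n hm hn hmn e
      have := (h.row i m n hmn).uniq _ (a i) (hy' m hm) (e ▸ hy' n hn) (ha i m) (ha i n)
      exact (h.triple k l).no_neg _ (hy m hm) (this ▸ hal)
    exact four (h.triple k l) hal (hy m₁ h1) (hy m₂ h2) (hy m₃ h3) (hne _ h1) (hne _ h2) (hne _ h3)
      (hinj _ _ h1 h2 h12) (hinj _ _ h1 h3 h13) (hinj _ _ h2 h3 h23)
  have ha2 : ∀ i k j, k ≠ i → a i ∉ S k j ∧ -a i ∉ S k j := fun i k j hki =>
    ⟨ha1 i k j hki, (h.col i k j (Ne.symm hki)).no_neg _ (ha i j)⟩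
  have hab : ∀ i j, a i ≠ b j := by
    intro i j e
    obtain ⟨k, hk⟩ := exists_ne i
    exact ha1 i k j hk (e ▸ hb j k)
  choose c hc hca hcb hall using fun i j => third (h.triple i j) (ha i j) (hb j i) (hab i j)
  -- triples in general position only meet trivially
  have hoff : ∀ i k j l, i ≠ k → j ≠ l → ∀ x ∈ S k l, x ∉ S i j ∧ -x ∉ S i j := by
    intro i k j l hik hjl
    have ho := h.off k i l j (Ne.symm hik) (Ne.symm hjl)
    have key : ∀ x ∈ S k l, x ∉ S i j := by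
      intro x hx hx'
      obtain ⟨y, hy, hy'⟩ := ho.opp x hx hx'
      obtain ⟨r, hr, hr'⟩ := (h.col k i l (Ne.symm hik)).ex
      have hrx : r ≠ x := fun e => by
        have := (h.row i j l hjl).uniq _ (a i) hx' (e ▸ hr') (ha i j) (ha i l)
        exact ha1 i k l (Ne.symm hik) (this ▸ hx)
      have hry : r ≠ y := fun e => (h.row i l j (Ne.symm hjl)).no_neg _ hr' (e ▸ hy')
      have hxy : x ≠ y := fun e => (h.triple i j).no_neg _ hx' (e ▸ hy')
      rcases three (h.triple k l) hr hx hy hrx hry hxy (ha k l) with e | e | e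
      · exact (ha2 k i l hik).1 (e.symm ▸ hr')
      · exact (ha2 k i j hik).1 (e.symm ▸ hx')
      · exact (ha2 k i j hik).2 (e.symm ▸ hy')
    intro x hx
    refine ⟨key x hx, fun h' => ?_⟩
    obtain ⟨z, hz, hz'⟩ := ho.com x hx h'
    exact key z hz hz'
  refine ⟨a, b, c, fun i j => ⟨ha i j, hb j i, hc i j⟩, fun i j => ⟨hab i j, (hca i j).symm, (hcb i j).symm⟩,
    ha2, fun i j l hlj => ?_, fun i j k l hne => ?_⟩
  · refine ⟨fun hm => hab i j ?_, (h.row i j l (Ne.symm hlj)).no_neg _ (hb j i)⟩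
    exact ((h.row i j l (Ne.symm hlj)).uniq _ _ (hb j i) hm (ha i j) (ha i l)).symm
  · by_cases hk : k = i
    · subst hk
      have hl := hne.resolve_left (fun e => e rfl)
      refine ⟨fun hm => hca k j ?_, (h.row k j l (Ne.symm hl)).no_neg _ (hc k j)⟩
      exact (h.row k j l (Ne.symm hl)).uniq _ _ (hc k j) hm (ha k j) (ha k l)
    · by_cases hl : l = j
      · subst hl
        refine ⟨fun hm => hcb i l ?_, (h.col i k l (Ne.symm hk)).no_neg _ (hc i l)⟩
        exact (h.col i k l (Ne.symm hk)).uniq _ _ (hc i l) hm (hb l i) (hb l k)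
      · exact hoff k i l j hk hl _ (hc i j)

end Cfsg.Agent.CyclicTI.Grid
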