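import Cfsg.Agent.Lib.CyclicTI.Basic
import Cfsg.Agent.Lib.CyclicTI.Grid
import Cfsg.Agent.Lib.Coherence.Virtual
import Cfsg.Agent.Lib.Char.Virtual
import Cfsg.Agent.S1505

/-!
Existence of the cyclic TI family.

* `norm_three` : a virtual character of norm three is a sum of three signed irreducibles
* `adj_of_inner`, `orth_of_inner` : the translation to the combinatorics of `Grid`
* `orthonormal_of_grid`, `exists_family`
-/
set_option autoImplicit false

namespace Cfsg.Agent.CyclicTI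

open Cfsg Cfsg.Agent.Char Cfsg.Agent.Coherence Cfsg.Agent.CyclicTI.Grid
open scoped ComplexConjugate

variable {G : Type*} [Group G] [Fintype G]

theorem signed_one : IsSignedIrr G (1 : G → ℂ) := Or.inl isIrrCharacter_one

theorem signed_neg {x : G → ℂ} (h : IsSignedIrr G x) : IsSignedIrr G (-x) :=
  h.elim (fun h => Or.inr (by rwa [neg_neg])) fun h => Or.inl h

theorem signed_apply_one_ne {x : G → ℂ} (h : IsSignedIrr G x) : x 1 ≠ 0 := by
  rcases h with h | h
  · exact IsIrrCharacter.apply_one_ne_zero h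
  · simpa using IsIrrCharacter.apply_one_ne_zero h

theorem signed_inner_zero {x y : G → ℂ} (hx : IsSignedIrr G x) (hy : IsSignedIrr G y)
    (h1 : y ≠ x) (h2 : y ≠ -x) : classInner x y = 0 := by
  rcases (classInner_signed hx hy).2 with h | ⟨h, -⟩ | ⟨h, -⟩
  · exact h
  · exact absurd h h1
  · exact absurd h h2

theorem norm_three {θ : G → ℂ} (h : IsGeneralizedCharacter G θ) (h3 : classInner θ θ = 3) :
    ∃ S : Finset (G → ℂ), Triple S ∧ (∀ x ∈ S, IsSignedIrr G x) ∧ θ = ∑ x ∈ S, x ∧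
      ∀ x ∈ S, classInner θ x = 1 := by
  classical
  have : Fintype (IrrCharacter G) := Fintype.ofFinite _
  obtain ⟨c, hexp, hc, hn⟩ := gc_eq_sum h
  have hsum : ∑ χ : IrrCharacter G, c χ ^ 2 = 3 := by
    have := hn.symm.trans h3; exact_mod_cast this
  have h01 : ∀ χ, c χ ≠ 0 → c χ = 1 ∨ c χ = -1 := by
    intro χ hχ
    have hle : c χ ^ 2 ≤ 3 := hsum ▸ Finset.single_le_sum (f := fun χ => c χ ^ 2) (fun _ _ => sq_nonneg _) (Finset.mem_univ χ)
    have h1 : -2 < c χ := by nlinarith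
    have h2 : c χ < 2 := by nlinarith
    omega
  set T := Finset.univ.filter fun χ => c χ ≠ 0 with hT
  have hcard : T.card = 3 := by
    have : ∑ χ ∈ T, c χ ^ 2 = 3 := by
      rw [← hsum, hT, Finset.sum_filter]
      refine Finset.sum_congr rfl fun χ _ => ?_
      split_ifs with h
      · rfl
      · push Not at h; simp [h]
    rw [Finset.sum_congr rfl (g := fun _ => (1 : ℤ)) fun χ hχ => by
      rcases h01 χ (Finset.mem_filter.mp hχ).2 with e | e <;> simp [e]] at this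
    simp only [Finset.sum_const, nsmul_one] at this
    exact_mod_cast this
  set f : IrrCharacter G → (G → ℂ) := fun χ => (c χ : ℂ) • (χ : G → ℂ)
  have hsign : ∀ χ ∈ T, IsSignedIrr G (f χ) := by
    intro χ hχ
    rcases h01 χ (Finset.mem_filter.mp hχ).2 with e | e
    · exact Or.inl (by simpa [f, e] using χ.2)
    · exact Or.inr (by simpa [f, e] using χ.2)
  have hinner : ∀ χ ∈ T, classInner θ (f χ) = 1 := by
    intro χ hχ
    simp only [f]
    rw [classInner_smul_right, hc]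
    rcases h01 χ (Finset.mem_filter.mp hχ).2 with e | e <;> simp [e]
  have hinj : Set.InjOn f (T : Set (IrrCharacter G)) := by
    intro χ hχ ψ hψ e
    by_contra hne
    have h1 : classInner (f χ) (f ψ) = 0 := by
      simp only [f]
      rw [classInner_smul_left, classInner_smul_right,
        classInner_irr_of_ne χ.2 ψ.2 (fun h => hne (Subtype.ext h))]
      ring
    rw [← e, (classInner_signed (hsign χ hχ) (hsign χ hχ)).1] at h1
    exact one_ne_zero h1
  refine ⟨T.image f, ⟨by rw [Finset.card_image_of_injOn hinj, hcard], ?_⟩, ?_, ?_, ?_⟩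
  · intro x hx hx'
    obtain ⟨χ, hχ, rfl⟩ := Finset.mem_image.mp hx
    obtain ⟨ψ, hψ, e⟩ := Finset.mem_image.mp hx'
    have := hinner ψ hψ
    rw [e, classInner_neg_right, hinner χ hχ] at this
    norm_num at this
  · intro x hx
    obtain ⟨χ, hχ, rfl⟩ := Finset.mem_image.mp hx
    exact hsign χ hχ
  · rw [Finset.sum_image hinj, hexp, hT, Finset.sum_filter]
    refine Finset.sum_congr rfl fun χ _ => ?_
    split_ifs with h
    · rfl
    · push Not at h; simp [f, h]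
  · intro x hx
    obtain ⟨χ, hχ, rfl⟩ := Finset.mem_image.mp hx
    exact hinner χ hχ

open Classical in
theorem inner_sum {S T : Finset (G → ℂ)} (hS : ∀ x ∈ S, IsSignedIrr G x) (hT : ∀ x ∈ T, IsSignedIrr G x) :
    classInner (∑ x ∈ S, x) (∑ y ∈ T, y) =
      ((S.filter (· ∈ T)).card : ℂ) - ((S.filter (fun x => -x ∈ T)).card : ℂ) := by
  rw [classInner_sum_left, ← Finset.sum_boole, ← Finset.sum_boole, ← Finset.sum_sub_distrib]
  refine Finset.sum_congr rfl fun x hx => ?_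
  rw [classInner_sum_right, ← Finset.sum_ite_eq T x (fun _ => (1 : ℂ)),
    ← Finset.sum_ite_eq T (-x) (fun _ => (1 : ℂ)), ← Finset.sum_sub_distrib]
  refine Finset.sum_congr rfl fun y hy => ?_
  have hne : x ≠ -x := fun e => signed_apply_one_ne (hS x hx) (by
    have := congrFun e 1
    simp only [Pi.neg_apply] at this
    linear_combination this / 2)
  by_cases h1 : y = x
  · subst h1; rw [if_pos rfl, if_neg (Ne.symm hne), (classInner_signed (hS y hx) (hT y hy)).1, sub_zero]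
  · by_cases h2 : y = -x
    · subst h2
      rw [if_neg hne, if_pos rfl, classInner_neg_right, (classInner_signed (hS x hx) (hS x hx)).1, zero_sub]
    · rw [signed_inner_zero (hS x hx) (hT y hy) h1 h2, if_neg (Ne.symm h1), if_neg (Ne.symm h2), sub_zero]

theorem counts {S T : Finset (G → ℂ)} (tS : Triple S) (tT : Triple T) [DecidableEq (G → ℂ)] :
    (S.filter (· ∈ T)).card + (S.filter (fun x => -x ∈ T)).card ≤ 3 := by
  rw [← Finset.card_union_of_disjoint (Finset.disjoint_filter.mpr fun x _ h1 h2 => tT.no_neg x h1 h2),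
    ← tS.card]
  exact Finset.card_le_card (Finset.union_subset (Finset.filter_subset _ _) (Finset.filter_subset _ _))

theorem adj_of_inner {S T : Finset (G → ℂ)} (tS : Triple S) (tT : Triple T)
    (hS : ∀ x ∈ S, IsSignedIrr G x) (hT : ∀ x ∈ T, IsSignedIrr G x)
    (h1 : classInner (∑ x ∈ S, x) (∑ y ∈ T, y) = 1)
    (heq : (∑ x ∈ S, x : G → ℂ) 1 = (∑ y ∈ T, y : G → ℂ) 1) : Adj S T := by
  classical
  rw [inner_sum hS hT] at h1
  have hp : (S.filter (· ∈ T)).card = (S.filter (fun x => -x ∈ T)).card + 1 := by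
    have : ((S.filter (· ∈ T)).card : ℂ) = (((S.filter (fun x => -x ∈ T)).card + 1 : ℕ) : ℂ) := by
      push_cast; linear_combination h1
    exact_mod_cast this
  have hle := counts tS tT
  have hn : (S.filter (fun x => -x ∈ T)).card = 0 := by
    by_contra hn0
    obtain ⟨u, v, huv, he⟩ := Finset.card_eq_two.mp (show (S.filter (· ∈ T)).card = 2 by omega)
    obtain ⟨w, hw⟩ := Finset.card_eq_one.mp (show (S.filter (fun x => -x ∈ T)).card = 1 by omega)
    have hu := Finset.mem_filter.mp (he.symm ▸ Finset.mem_insert_self u {v} : u ∈ S.filter (· ∈ T))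
    have hv := Finset.mem_filter.mp (he.symm ▸ by simp : v ∈ S.filter (· ∈ T))
    have hw' := Finset.mem_filter.mp (hw.symm ▸ Finset.mem_singleton_self w : w ∈ S.filter (fun x => -x ∈ T))
    have huw : u ≠ w := fun e => tT.no_neg u hu.2 (e ▸ hw'.2)
    have hvw : v ≠ w := fun e => tT.no_neg v hv.2 (e ▸ hw'.2)
    have huw' : u ≠ -w := fun e => tS.no_neg w hw'.1 (e ▸ hu.1)
    have hvw' : v ≠ -w := fun e => tS.no_neg w hw'.1 (e ▸ hv.1)
    have eS : S = {u, v, w} := (Finset.eq_of_subset_of_card_le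
      (by simp [Finset.insert_subset_iff, hu.1, hv.1, hw'.1])
      (by rw [tS.card]; simp [huv, huw, hvw])).symm
    have eT : T = {u, v, -w} := (Finset.eq_of_subset_of_card_le
      (by simp [Finset.insert_subset_iff, hu.2, hv.2, hw'.2])
      (by rw [tT.card]; simp [huv, huw', hvw'])).symm
    rw [eS, eT] at heq
    simp [huv, huw, hvw, huw', hvw'] at heq
    exact signed_apply_one_ne (hS w hw'.1) (by linear_combination heq / 2)
  obtain ⟨x, hx⟩ := Finset.card_eq_one.mp (show (S.filter (· ∈ T)).card = 1 by omega)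
  have hmem : ∀ y, y ∈ S → y ∈ T → y = x := fun y h h' =>
    Finset.mem_singleton.mp (hx ▸ Finset.mem_filter.mpr ⟨h, h'⟩)
  have hxm := Finset.mem_filter.mp (hx.symm ▸ Finset.mem_singleton_self x : x ∈ S.filter (· ∈ T))
  exact ⟨⟨x, hxm⟩, fun a b h1 h2 h3 h4 => (hmem a h1 h2).trans (hmem b h3 h4).symm,
    fun a h1 h2 => Finset.filter_eq_empty_iff.mp (Finset.card_eq_zero.mp hn) h1 h2⟩

theorem orth_of_inner {S T : Finset (G → ℂ)} (tS : Triple S) (tT : Triple T)
    (hS : ∀ x ∈ S, IsSignedIrr G x) (hT : ∀ x ∈ T, IsSignedIrr G x)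
    (h0 : classInner (∑ x ∈ S, x) (∑ y ∈ T, y) = 0) : Orth S T := by
  classical
  rw [inner_sum hS hT, sub_eq_zero, Nat.cast_inj] at h0
  have hle := counts tS tT
  have h1 : (S.filter (· ∈ T)).card ≤ 1 := by omega
  refine ⟨fun x y a b c d => Finset.card_le_one.mp h1 x (Finset.mem_filter.mpr ⟨a, b⟩) y
    (Finset.mem_filter.mpr ⟨c, d⟩), fun x a b => ?_, fun y a b => ?_⟩
  · have : 0 < (S.filter (· ∈ T)).card := Finset.card_pos.mpr ⟨x, Finset.mem_filter.mpr ⟨a, b⟩⟩
    obtain ⟨y, hy⟩ := Finset.card_pos.mp (h0 ▸ this)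
    exact ⟨y, Finset.mem_filter.mp hy⟩
  · have : 0 < (S.filter (fun x => -x ∈ T)).card := Finset.card_pos.mpr ⟨y, Finset.mem_filter.mpr ⟨a, b⟩⟩
    obtain ⟨x, hx⟩ := Finset.card_pos.mp (h0.symm ▸ this)
    exact ⟨x, Finset.mem_filter.mp hx⟩

/-! ### The family -/

variable {W₁ W₂ : Subgroup G}

/-- The nontrivial linear characters trivial on `W₂`. -/
abbrev Idx₁ (W₁ W₂ : Subgroup G) : Type _ :=
  {φ : ↥(W₁ ⊔ W₂) →* ℂˣ // φ ≠ 1 ∧ ∀ w : ↥(W₁ ⊔ W₂), (w : G) ∈ W₂ → φ w = 1}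

/-- The nontrivial linear characters trivial on `W₁`. -/
abbrev Idx₂ (W₁ W₂ : Subgroup G) : Type _ :=
  {ψ : ↥(W₁ ⊔ W₂) →* ℂˣ // ψ ≠ 1 ∧ ∀ w : ↥(W₁ ⊔ W₂), (w : G) ∈ W₁ → ψ w = 1}

theorem card_drop_one {α : Type*} [Finite α] [One α] (p : α → Prop) (h1 : p 1) :
    Nat.card {x : α // x ≠ 1 ∧ p x} = Nat.card {x : α // p x} - 1 := by
  classical
  haveI := Fintype.ofFinite α
  rw [Nat.card_eq_fintype_card, Nat.card_eq_fintype_card, Fintype.card_subtype, Fintype.card_subtype,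
    ← Finset.card_erase_of_mem (s := Finset.univ.filter p) (a := 1) (by simp [h1])]
  congr 1
  ext x; simp

theorem exists_family (hW : IsSelfNormalizingCyclic W₁ W₂) (hodd : Odd (Nat.card ↥(W₁ ⊔ W₂))) :
    ∃ χ : (↥(W₁ ⊔ W₂) →* ℂˣ) → (G → ℂ), IsCyclicTIFamily W₁ W₂ χ := by
  classical
  have hP := isPair_of_selfNormalizing hW
  haveI := Fintype.ofFinite ↥(W₁ ⊔ W₂)
  haveI : Finite (↥(W₁ ⊔ W₂) →* ℂˣ) := finite_lin _
  haveI : Fintype (↥(W₁ ⊔ W₂) →* ℂˣ) := Fintype.ofFinite _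
  have hc := comm_of_selfNormalizing hW
  -- cardinalities
  have hI : Nat.card (Idx₁ W₁ W₂) = Nat.card W₁ - 1 := by
    rw [card_drop_one _ (fun _ _ => rfl), card_lin_factor₁ hP hc]
  have hJ : Nat.card (Idx₂ W₁ W₂) = Nat.card W₂ - 1 := by
    rw [card_drop_one _ (fun _ _ => rfl), card_lin_factor₂ hP hc]
  have ho1 : Odd (Nat.card W₁) := hodd.of_dvd_nat (Subgroup.card_dvd_of_le le_sup_left)
  have ho2 : Odd (Nat.card W₂) := hodd.of_dvd_nat (Subgroup.card_dvd_of_le le_sup_right)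
  have h11 : 1 < Nat.card W₁ := (Subgroup.one_lt_card_iff_ne_bot _).mpr hW.1
  have h21 : 1 < Nat.card W₂ := (Subgroup.one_lt_card_iff_ne_bot _).mpr hW.2.1
  have hne : Nat.card W₁ ≠ Nat.card W₂ := by
    intro e
    refine hW.1 ?_
    rw [eq_bot_iff, ← hP.disj]
    refine le_inf le_rfl fun x hx => card_coprime_free_mem hW.2.2.2.2.1 le_sup_right
      (Subgroup.mem_sup_left hx) ?_
    rw [← e]
    exact orderOf_dvd_iff_pow_eq_one.mp (Subgroup.orderOf_dvd_natCard _ hx)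
  -- the virtual characters of norm three
  let γ : Idx₁ W₁ W₂ → Idx₂ W₁ W₂ → G → ℂ := fun i j =>
    indFun (W₁ ⊔ W₂) (fun w => 1 - (i.1 w : ℂ) - (j.1 w : ℂ) + (i.1 w : ℂ) * (j.1 w : ℂ)) - 1
  have halpha : ∀ (i : Idx₁ W₁ W₂) (j : Idx₂ W₁ W₂),
      (fun w => 1 - (i.1 w : ℂ) - (j.1 w : ℂ) + (i.1 w : ℂ) * (j.1 w : ℂ)) = hP.alpha (i.1 * j.1) := by
    intro i j
    funext w
    rw [IsPair.alpha, (hP.split_mul i.2.2 j.2.2).1, (hP.split_mul i.2.2 j.2.2).2]
  have hgc : ∀ i j, IsGeneralizedCharacter G (γ i j) := by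
    intro i j
    refine isGC_sub ?_ (isGC_of_irr isIrrCharacter_one)
    rw [halpha, hP.alpha_eq]
    exact IsGeneralizedCharacter.indFun (isGC_add (isGC_sub (isGC_sub (isGC_of_irr (lin_irr _))
      (isGC_of_irr (lin_irr _))) (isGC_of_irr (lin_irr _))) (isGC_of_irr (lin_irr _)))
  have hval : ∀ i j, γ i j 1 = -1 := by
    intro i j
    simp [γ, indFun_one_apply]
  have hone : ∀ i j, classInner (γ i j) 1 = 0 := by
    intro i j
    have h := (S1505.result W₁ W₂ hW i.1 i.1 j.1 j.1 i.2.1 i.2.1 j.2.1 j.2.1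
      (fun w hw => ⟨i.2.2 w hw, i.2.2 w hw⟩) (fun w hw => ⟨j.2.2 w hw, j.2.2 w hw⟩)).1
    simp only [γ, classInner_sub_left, classInner_irr_self isIrrCharacter_one]
    exact sub_eq_zero.mpr h
  have hdot : ∀ i j k l, classInner (γ i j) (γ k l) = (if i = k then 1 else 0) +
      (if j = l then 1 else 0) + (if i = k then 1 else 0) * (if j = l then 1 else 0) := by
    intro i j k l
    obtain ⟨h1, h2⟩ := S1505.result W₁ W₂ hW i.1 k.1 j.1 l.1 i.2.1 k.2.1 j.2.1 l.2.1
      (fun w hw => ⟨i.2.2 w hw, k.2.2 w hw⟩) (fun w hw => ⟨j.2.2 w hw, l.2.2 w hw⟩)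
    have h3 := hone i j
    have h4 := hone k l
    simp only [γ, classInner_sub_left, classInner_sub_right, classInner_irr_self isIrrCharacter_one] at h3 h4 ⊢
    rw [h2]
    have h5 : classInner (1 : G → ℂ) (indFun (W₁ ⊔ W₂)
        (fun w => 1 - (k.1 w : ℂ) - (l.1 w : ℂ) + (k.1 w : ℂ) * (l.1 w : ℂ))) = 1 := by
      rw [← classInner_conj_symm, sub_eq_zero.mp h4, map_one]
    rw [h5, sub_eq_zero.mp h3]
    simp only [Subtype.ext_iff]
    ring
  choose S tS sS eS iS using fun i j => norm_three (hgc i j) (by rw [hdot]; norm_num)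
  have hG : IsGrid S := by
    refine ⟨tS, fun i j l h => ?_, fun i k j h => ?_, fun i k j l h h' => ?_⟩
    · refine adj_of_inner (tS i j) (tS i l) (sS i j) (sS i l) ?_ ?_
      · rw [← eS, ← eS, hdot, if_pos rfl, if_neg h]; norm_num
      · rw [← eS, ← eS, hval, hval]
    · refine adj_of_inner (tS i j) (tS k j) (sS i j) (sS k j) ?_ ?_
      · rw [← eS, ← eS, hdot, if_neg h, if_pos rfl]; norm_num
      · rw [← eS, ← eS, hval, hval]
    · refine orth_of_inner (tS i j) (tS k l) (sS i j) (sS k l) ?_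
      rw [← eS, ← eS, hdot, if_neg h, if_neg h']; norm_num
  obtain ⟨a, b, c, hmem, hdist, hA, hB, hC⟩ :
    ∃ (a : Idx₁ W₁ W₂ → G → ℂ) (b : Idx₂ W₁ W₂ → G → ℂ) (c : Idx₁ W₁ W₂ → Idx₂ W₁ W₂ → G → ℂ),
      (∀ i j, a i ∈ S i j ∧ b j ∈ S i j ∧ c i j ∈ S i j) ∧
      (∀ i j, a i ≠ b j ∧ a i ≠ c i j ∧ b j ≠ c i j) ∧
      (∀ i k j, k ≠ i → a i ∉ S k j ∧ -a i ∉ S k j) ∧
      (∀ i j l, l ≠ j → b j ∉ S i l ∧ -b j ∉ S i l) ∧
      (∀ i j k l, k ≠ i ∨ l ≠ j → c i j ∉ S k l ∧ -c i j ∉ S k l) := by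
    obtain ⟨u, hu⟩ := ho1
    obtain ⟨v, hv⟩ := ho2
    have e1 : Even (Nat.card (Idx₁ W₁ W₂)) := ⟨u, by omega⟩
    have e2 : Even (Nat.card (Idx₂ W₁ W₂)) := ⟨v, by omega⟩
    by_cases h4 : 4 ≤ Nat.card (Idx₂ W₁ W₂)
    · exact grid hG e1 (by omega) e2 h4
    · obtain ⟨a, b, c, hmem, hdist, hA, hB, hC⟩ := grid hG.transpose e2 (by omega) e1 (by omega)
      exact ⟨b, a, fun i j => c j i, fun i j => ⟨(hmem j i).2.1, (hmem j i).1, (hmem j i).2.2⟩,
        fun i j => ⟨(hdist j i).1.symm, (hdist j i).2.2, (hdist j i).2.1⟩,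
        fun i k j h => hB j i k h, fun i j l h => hA j l i h,
        fun i j k l h => hC j i l k h.symm⟩
  obtain ⟨i₀⟩ : Nonempty (Idx₁ W₁ W₂) := (Nat.card_pos_iff.mp (by omega)).1
  obtain ⟨j₀⟩ : Nonempty (Idx₂ W₁ W₂) := (Nat.card_pos_iff.mp (by omega)).1
  have sa : ∀ i, IsSignedIrr G (a i) := fun i => sS i j₀ _ (hmem i j₀).1
  have sb : ∀ j, IsSignedIrr G (b j) := fun j => sS i₀ j _ (hmem i₀ j).2.1
  have sc : ∀ i j, IsSignedIrr G (c i j) := fun i j => sS i j _ (hmem i j).2.2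
  have sep : ∀ {x y : G → ℂ} i j, x ∈ S i j → IsSignedIrr G y → y ∉ S i j → -y ∉ S i j →
      classInner x y = 0 ∧ classInner y x = 0 := by
    intro x y i j hx hy h1 h2
    have h := signed_inner_zero (sS i j x hx) hy (fun e => h1 (e ▸ hx)) (fun e => h2 (by rwa [e, neg_neg]))
    exact ⟨h, by rw [← classInner_conj_symm, h, map_zero]⟩
  have same : ∀ {x y : G → ℂ} i j, x ∈ S i j → y ∈ S i j → x ≠ y →
      classInner x y = 0 ∧ classInner y x = 0 := by
    intro x y i j hx hy hne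
    have h := signed_inner_zero (sS i j x hx) (sS i j y hy) hne.symm
      (fun e => (tS i j).no_neg x hx (e ▸ hy))
    exact ⟨h, by rw [← classInner_conj_symm, h, map_zero]⟩
  have one0 : ∀ i j, ∀ x ∈ S i j, classInner x 1 = 0 ∧ classInner 1 x = 0 := by
    intro i j x hx
    have h : classInner x 1 = 0 := by
      rcases (classInner_signed (sS i j x hx) signed_one).2 with h | ⟨h, -⟩ | ⟨h, -⟩
      · exact h
      · have := iS i j x hx
        rw [← h, hone] at this
        exact absurd this zero_ne_one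
      · have := iS i j x hx
        rw [show x = -1 by rw [h, neg_neg], classInner_neg_right, hone, neg_zero] at this
        exact absurd this zero_ne_one
    exact ⟨h, by rw [← classInner_conj_symm, h, map_zero]⟩
  have aa : ∀ i k, i ≠ k → classInner (a i) (a k) = 0 := fun i k h =>
    (sep i j₀ (hmem i j₀).1 (sa k) (hA k i j₀ h).1 (hA k i j₀ h).2).1
  have bb : ∀ j l, j ≠ l → classInner (b j) (b l) = 0 := fun j l h =>
    (sep i₀ j (hmem i₀ j).2.1 (sb l) (hB i₀ l j h).1 (hB i₀ l j h).2).1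
  have ab : ∀ i j, classInner (a i) (b j) = 0 ∧ classInner (b j) (a i) = 0 := fun i j =>
    same i j (hmem i j).1 (hmem i j).2.1 (hdist i j).1
  have ac : ∀ i k l, classInner (a i) (c k l) = 0 ∧ classInner (c k l) (a i) = 0 := fun i k l => by
    by_cases h : k = i
    · subst h; exact same k l (hmem k l).1 (hmem k l).2.2 (hdist k l).2.1
    · exact (sep k l (hmem k l).2.2 (sa i) (hA i k l h).1 (hA i k l h).2).symm
  have bc : ∀ j k l, classInner (b j) (c k l) = 0 ∧ classInner (c k l) (b j) = 0 := fun j k l => by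
    by_cases h : l = j
    · subst h; exact same k l (hmem k l).2.1 (hmem k l).2.2 (hdist k l).2.2
    · exact (sep k l (hmem k l).2.2 (sb j) (hB k j l h).1 (hB k j l h).2).symm
  have cc : ∀ i j k l, i ≠ k ∨ j ≠ l → classInner (c i j) (c k l) = 0 := fun i j k l h =>
    (sep i j (hmem i j).2.2 (sc k l) (hC k l i j h).1 (hC k l i j h).2).1
  let mk₁ : ∀ ω : ↥(W₁ ⊔ W₂) →* ℂˣ, hP.lfst ω ≠ 1 → Idx₁ W₁ W₂ := fun ω h =>
    ⟨hP.lfst ω, h, fun w hw => hP.lfst_apply_of_mem₂ ω hw⟩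
  let mk₂ : ∀ ω : ↥(W₁ ⊔ W₂) →* ℂˣ, hP.lsnd ω ≠ 1 → Idx₂ W₁ W₂ := fun ω h =>
    ⟨hP.lsnd ω, h, fun w hw => hP.lsnd_apply_of_mem₁ ω hw⟩
  let χ : (↥(W₁ ⊔ W₂) →* ℂˣ) → G → ℂ := fun ω =>
    if h₁ : hP.lfst ω = 1 then (if h₂ : hP.lsnd ω = 1 then 1 else -b (mk₂ ω h₂))
    else (if h₂ : hP.lsnd ω = 1 then -a (mk₁ ω h₁) else c (mk₁ ω h₁) (mk₂ ω h₂))
  have hext : ∀ ω ω' : ↥(W₁ ⊔ W₂) →* ℂˣ, hP.lfst ω = hP.lfst ω' → hP.lsnd ω = hP.lsnd ω' → ω = ω' :=
    fun ω ω' h1 h2 => by rw [← hP.lfst_mul_lsnd ω, h1, h2, hP.lfst_mul_lsnd]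
  have hsigned : ∀ ω, IsSignedIrr G (χ ω) := by
    intro ω
    simp only [χ]
    split_ifs
    · exact signed_one
    · exact signed_neg (sb _)
    · exact signed_neg (sa _)
    · exact sc _ _
  have horth : ∀ ω ω', classInner (χ ω) (χ ω') = if ω = ω' then 1 else 0 := by
    intro ω ω'
    split_ifs with heq
    · subst heq; exact (classInner_signed (hsigned ω) (hsigned ω)).1
    have hor : hP.lfst ω ≠ hP.lfst ω' ∨ hP.lsnd ω ≠ hP.lsnd ω' := by
      by_contra h
      push Not at h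
      exact heq (hext ω ω' h.1 h.2)
    have negl : ∀ {x y : G → ℂ}, classInner x y = 0 → classInner (-x) y = 0 := fun h => by
      rw [classInner_neg_left, h, neg_zero]
    have negr : ∀ {x y : G → ℂ}, classInner x y = 0 → classInner x (-y) = 0 := fun h => by
      rw [classInner_neg_right, h, neg_zero]
    simp only [χ]
    by_cases p : hP.lfst ω = 1 <;> by_cases q : hP.lsnd ω = 1 <;>
      by_cases p' : hP.lfst ω' = 1 <;> by_cases q' : hP.lsnd ω' = 1
    · exact (hor.elim (fun h => h (p.trans p'.symm)) (fun h => h (q.trans q'.symm))).elim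
    · rw [dif_pos p, dif_pos q, dif_pos p', dif_neg q']
      exact (negr (one0 _ _ _ (hmem i₀ _).2.1).2)
    · rw [dif_pos p, dif_pos q, dif_neg p', dif_pos q']
      exact (negr (one0 _ _ _ (hmem _ j₀).1).2)
    · rw [dif_pos p, dif_pos q, dif_neg p', dif_neg q']
      exact (one0 _ _ _ (hmem _ _).2.2).2
    · rw [dif_pos p, dif_neg q, dif_pos p', dif_pos q']
      exact (negl (one0 _ _ _ (hmem i₀ _).2.1).1)
    · rw [dif_pos p, dif_neg q, dif_pos p', dif_neg q']
      exact (negl (negr (bb _ _ fun e => hor.elim (fun h => h (p.trans p'.symm)) (fun h => h (congrArg Subtype.val e)))))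
    · rw [dif_pos p, dif_neg q, dif_neg p', dif_pos q']
      exact (negl (negr (ab _ _).2))
    · rw [dif_pos p, dif_neg q, dif_neg p', dif_neg q']
      exact (negl (bc _ _ _).1)
    · rw [dif_neg p, dif_pos q, dif_pos p', dif_pos q']
      exact (negl (one0 _ _ _ (hmem _ j₀).1).1)
    · rw [dif_neg p, dif_pos q, dif_pos p', dif_neg q']
      exact (negl (negr (ab _ _).1))
    · rw [dif_neg p, dif_pos q, dif_neg p', dif_pos q']
      exact (negl (negr (aa _ _ fun e => hor.elim (fun h => h (congrArg Subtype.val e)) (fun h => h (q.trans q'.symm)))))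
    · rw [dif_neg p, dif_pos q, dif_neg p', dif_neg q']
      exact (negl (ac _ _ _).1)
    · rw [dif_neg p, dif_neg q, dif_pos p', dif_pos q']
      exact (one0 _ _ _ (hmem _ _).2.2).1
    · rw [dif_neg p, dif_neg q, dif_pos p', dif_neg q']
      exact (negr (bc _ _ _).2)
    · rw [dif_neg p, dif_neg q, dif_neg p', dif_pos q']
      exact (negr (ac _ _ _).2)
    · rw [dif_neg p, dif_neg q, dif_neg p', dif_neg q']
      exact (cc _ _ _ _ (hor.imp (fun h e => h (congrArg Subtype.val e)) fun h e => h (congrArg Subtype.val e)))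
  have hχ1 : χ 1 = 1 := by
    have h1 : hP.lfst (1 : ↥(W₁ ⊔ W₂) →* ℂˣ) = 1 := hP.lfst_eq fun _ _ => rfl
    have h2 : hP.lsnd (1 : ↥(W₁ ⊔ W₂) →* ℂˣ) = 1 := hP.lsnd_eq fun _ _ => rfl
    simp only [χ, dif_pos h1, dif_pos h2]
  have hinduced : ∀ (i : Idx₁ W₁ W₂) (j : Idx₂ W₁ W₂),
      indFun (W₁ ⊔ W₂) (fun w => 1 - (i.1 w : ℂ) - (j.1 w : ℂ) + (i.1 w : ℂ) * (j.1 w : ℂ)) =
        1 - χ i.1 - χ j.1 + χ (i.1 * j.1) := by
    intro i j
    obtain ⟨f1, s1⟩ := hP.split_mul i.2.2 j.2.2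
    obtain ⟨f2, s2⟩ := hP.split_mul (ψ := 1) i.2.2 (fun _ _ => rfl)
    obtain ⟨f3, s3⟩ := hP.split_mul (φ := 1) (fun _ _ => rfl) j.2.2
    rw [show i.1 * 1 = i.1 from MonoidHom.ext fun w => mul_one _] at f2 s2
    rw [show (1 : ↥(W₁ ⊔ W₂) →* ℂˣ) * j.1 = j.1 from MonoidHom.ext fun w => one_mul _] at f3 s3
    have hi : χ i.1 = -a i := by
      simp only [χ, dif_pos s2]
      rw [dif_neg (by rw [f2]; exact i.2.1)]
      exact congrArg (fun x => -a x) (Subtype.ext f2)
    have hj : χ j.1 = -b j := by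
      simp only [χ, dif_pos f3]
      rw [dif_neg (by rw [s3]; exact j.2.1)]
      exact congrArg (fun x => -b x) (Subtype.ext s3)
    have hij : χ (i.1 * j.1) = c i j := by
      simp only [χ]
      rw [dif_neg (by rw [f1]; exact i.2.1), dif_neg (by rw [s1]; exact j.2.1)]
      exact congr (congrArg c (Subtype.ext f1)) (Subtype.ext s1)
    obtain ⟨m1, m2, m3⟩ := hmem i j
    obtain ⟨d1, d2, d3⟩ := hdist i j
    have eq3 : S i j = {a i, b j, c i j} := (Finset.eq_of_subset_of_card_le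
      (by simp [Finset.insert_subset_iff, m1, m2, m3]) (by rw [(tS i j).card]; simp [d1, d2, d3])).symm
    have hγ := eS i j
    rw [eq3] at hγ
    simp [d1, d2, d3, γ] at hγ
    rw [sub_eq_iff_eq_add] at hγ
    rw [hγ, hi, hj, hij]
    abel
  refine ⟨χ, hsigned, fun ω ω' => by rw [horth]; congr, hχ1, ?_, fun φ ψ hφ hψ hφ₂ hψ₁ => hinduced ⟨φ, hφ, hφ₂⟩ ⟨ψ, hψ, hψ₁⟩⟩
  -- the values on `W \ (W₁ ∪ W₂)`
  intro ω w hw₁ hw₂
  have hcl : IsClassFunction G (χ ω) := isGC_isClassFunction (isGC_signed (hsigned ω))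
  set f : ↥(W₁ ⊔ W₂) → ℂ := fun u => χ ω u - lin ω u
  have hzero : ∀ η, classInner f (hP.alpha η) = 0 := by
    intro η
    by_cases h1 : hP.lfst η = 1
    · rw [hP.alpha_of_lfst_eq_one (Or.inl h1), classInner_zero_right]
    by_cases h2 : hP.lsnd η = 1
    · rw [hP.alpha_of_lfst_eq_one (Or.inr h2), classInner_zero_right]
    have hL : classInner (fun u : ↥(W₁ ⊔ W₂) => χ ω u) (hP.alpha η) =
        classInner (lin ω) (hP.alpha η) := by
      have hind := hinduced (mk₁ η h1) (mk₂ η h2)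
      simp only [mk₁, mk₂, hP.lfst_mul_lsnd] at hind
      rw [← frobenius_reciprocity' (W₁ ⊔ W₂) _ hcl, show hP.alpha η = fun u =>
        1 - (hP.lfst η u : ℂ) - (hP.lsnd η u : ℂ) + (hP.lfst η u : ℂ) * (hP.lsnd η u : ℂ) from rfl,
        hind, show (fun u => 1 - (hP.lfst η u : ℂ) - (hP.lsnd η u : ℂ) +
          (hP.lfst η u : ℂ) * (hP.lsnd η u : ℂ)) = hP.alpha η from rfl, hP.alpha_eq, ← hχ1]
      simp only [classInner_add_right, classInner_sub_right, horth, classInner_lin]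
    show classInner ((fun u : ↥(W₁ ⊔ W₂) => χ ω u) - lin ω) _ = 0
    rw [classInner_sub_left, hL, sub_self]
  set fV : ↥(W₁ ⊔ W₂) → ℂ := fun u => if (u : G) ∈ W₁ ∨ (u : G) ∈ W₂ then 0 else f u
  have hfV : classInner fV fV = 0 := by
    have h : classInner fV fV = classInner f fV := by
      unfold classInner
      refine congrArg _ (Finset.sum_congr rfl fun u _ => ?_)
      by_cases hu : (u : G) ∈ W₁ ∨ (u : G) ∈ W₂ <;> simp [fV, hu]
    rw [h, hP.expansion_alpha hc fV (fun u hu => by simp [fV, hu]), classInner_sum_right]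
    refine Finset.sum_eq_zero fun η _ => ?_
    rw [classInner_smul_right, hzero, mul_zero]
  have h0 := congrFun (classInner_self_eq_zero.mp hfV) w
  simp [fV, f, hw₁, hw₂, sub_eq_zero] at h0
  exact h0

end Cfsg.Agent.CyclicTI
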