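import Cfsg.Agent.Lib.CyclicTI.Basic
import Cfsg.Agent.Lib.Coherence.Virtual
import Cfsg.Agent.S1506

/-!
Rigidity of a cyclic TI family.

* `exists_avoid₁`, `exists_avoid₂` : a linear character of a factor avoiding two given ones
* `coeff_eq_zero` : a coefficient vector with at most two nonzero entries obeying the rectangle rule
* `eq_of_eq_on` : a signed irreducible agreeing with `ω` on `V` is `χ ω`
-/
set_option autoImplicit false

namespace Cfsg.Agent.CyclicTI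

open Cfsg Cfsg.Agent.Char Cfsg.Agent.Coherence

variable {G : Type*} [Group G] [Fintype G] {W₁ W₂ : Subgroup G}

theorem exists_avoid {α : Type*} [Finite α] (h : 3 ≤ Nat.card α) (u v : α) : ∃ x, x ≠ u ∧ x ≠ v := by
  classical
  haveI := Fintype.ofFinite α
  rw [Nat.card_eq_fintype_card] at h
  obtain ⟨x, -, hx⟩ := Finset.exists_mem_notMem_of_card_lt_card (s := ({u, v} : Finset α))
    (t := Finset.univ) (by have := Finset.card_le_two (a := u) (b := v); rw [Finset.card_univ]; omega)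
  simp only [Finset.mem_insert, Finset.mem_singleton, not_or] at hx
  exact ⟨x, hx⟩

omit [Fintype G] in
theorem three_le_card [Finite G] {K : Subgroup G} (hK : K ≠ ⊥) (hodd : Odd (Nat.card K)) : 3 ≤ Nat.card K := by
  have h1 : 1 < Nat.card K := (Subgroup.one_lt_card_iff_ne_bot _).mpr hK
  obtain ⟨u, hu⟩ := hodd
  omega

/-- A coefficient vector of a class function vanishing on `V` with support in two points is zero. -/
theorem coeff_eq_zero (hW : IsSelfNormalizingCyclic W₁ W₂) (hodd : Odd (Nat.card ↥(W₁ ⊔ W₂)))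
    {χ : (↥(W₁ ⊔ W₂) →* ℂˣ) → (G → ℂ)} (hχ : IsCyclicTIFamily W₁ W₂ χ) {θ : G → ℂ}
    (hθ : IsClassFunction G θ) (hθV : ∀ w : ↥(W₁ ⊔ W₂), (w : G) ∉ W₁ → (w : G) ∉ W₂ → θ w = 0)
    (ω η : ↥(W₁ ⊔ W₂) →* ℂˣ) (hsupp : ∀ ν, ν ≠ ω → ν ≠ η → classInner θ (χ ν) = 0) :
    classInner θ (χ ω) = 0 := by
  have hP := isPair_of_selfNormalizing hW
  have hc := comm_of_selfNormalizing hW
  have h1 : 3 ≤ Nat.card W₁ := three_le_card hW.1 (hodd.of_dvd_nat (Subgroup.card_dvd_of_le le_sup_left))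
  have h2 : 3 ≤ Nat.card W₂ := three_le_card hW.2.1 (hodd.of_dvd_nat (Subgroup.card_dvd_of_le le_sup_right))
  haveI : Finite (↥(W₁ ⊔ W₂) →* ℂˣ) := finite_lin _
  obtain ⟨φ', hφ1, hφ2⟩ := exists_avoid (h1.trans_eq (card_lin_factor₁ hP hc).symm)
    ⟨hP.lfst ω, fun w hw => hP.lfst_apply_of_mem₂ ω hw⟩ ⟨hP.lfst η, fun w hw => hP.lfst_apply_of_mem₂ η hw⟩
  obtain ⟨ψ', hψ1, hψ2⟩ := exists_avoid (h2.trans_eq (card_lin_factor₂ hP hc).symm)
    ⟨hP.lsnd ω, fun w hw => hP.lsnd_apply_of_mem₁ ω hw⟩ ⟨hP.lsnd η, fun w hw => hP.lsnd_apply_of_mem₁ η hw⟩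
  have hf : ∀ w : ↥(W₁ ⊔ W₂), (w : G) ∈ W₂ → hP.lfst ω w = 1 := fun w hw => hP.lfst_apply_of_mem₂ ω hw
  have hs : ∀ w : ↥(W₁ ⊔ W₂), (w : G) ∈ W₁ → hP.lsnd ω w = 1 := fun w hw => hP.lsnd_apply_of_mem₁ ω hw
  have hr := S1506.rectangle hP hχ hθ hθV hf φ'.2 hs ψ'.2
  obtain ⟨a1, b1⟩ := hP.split_mul φ'.2 ψ'.2
  obtain ⟨a2, b2⟩ := hP.split_mul hf ψ'.2
  obtain ⟨a3, b3⟩ := hP.split_mul φ'.2 hs
  rw [hP.lfst_mul_lsnd,
    hsupp (φ'.1 * ψ'.1) (fun e => hφ1 (Subtype.ext (a1.symm.trans (congrArg hP.lfst e))))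
      (fun e => hφ2 (Subtype.ext (a1.symm.trans (congrArg hP.lfst e)))),
    hsupp (hP.lfst ω * ψ'.1) (fun e => hψ1 (Subtype.ext (b2.symm.trans (congrArg hP.lsnd e))))
      (fun e => hψ2 (Subtype.ext (b2.symm.trans (congrArg hP.lsnd e)))),
    hsupp (φ'.1 * hP.lsnd ω) (fun e => hφ1 (Subtype.ext (a3.symm.trans (congrArg hP.lfst e))))
      (fun e => hφ2 (Subtype.ext (a3.symm.trans (congrArg hP.lfst e))))] at hr
  simpa using hr

/-- A signed irreducible character agreeing with `ω` on `V` is `χ ω`. -/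
theorem eq_of_eq_on (hW : IsSelfNormalizingCyclic W₁ W₂) (hodd : Odd (Nat.card ↥(W₁ ⊔ W₂)))
    {χ : (↥(W₁ ⊔ W₂) →* ℂˣ) → (G → ℂ)} (hχ : IsCyclicTIFamily W₁ W₂ χ) {x : G → ℂ}
    (hx : IsSignedIrr G x) (ω : ↥(W₁ ⊔ W₂) →* ℂˣ)
    (h : ∀ w : ↥(W₁ ⊔ W₂), (w : G) ∉ W₁ → (w : G) ∉ W₂ → x w = (ω w : ℂ)) : x = χ ω := by
  classical
  by_contra hne
  have hθ : IsClassFunction G (x - χ ω) :=
    isClassFunction_sub (isGC_isClassFunction (isGC_signed hx)) (isGC_isClassFunction (isGC_signed (hχ.irr_or_neg ω)))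
  have hV : ∀ w : ↥(W₁ ⊔ W₂), (w : G) ∉ W₁ → (w : G) ∉ W₂ → (x - χ ω) w = 0 := fun w a b => by
    rw [Pi.sub_apply, h w a b, hχ.eq_on ω w a b, sub_self]
  -- a second possible index
  obtain ⟨η, hη⟩ : ∃ η, ∀ ν, ν ≠ η → classInner x (χ ν) = 0 := by
    by_cases hex : ∃ η, classInner x (χ η) ≠ 0
    · obtain ⟨η, hη⟩ := hex
      refine ⟨η, fun ν hν => ?_⟩
      have ho : classInner (χ η) (χ ν) = 0 := by rw [hχ.orthonormal, if_neg (Ne.symm hν)]
      rcases (classInner_signed hx (hχ.irr_or_neg η)).2 with e | ⟨e, -⟩ | ⟨e, -⟩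
      · exact absurd e hη
      · rw [← e]; exact ho
      · rw [show x = -χ η by rw [e, neg_neg], classInner_neg_left, ho, neg_zero]
    · push Not at hex
      exact ⟨ω, fun ν _ => hex ν⟩
  have h0 := coeff_eq_zero hW hodd hχ hθ hV ω η fun ν h1 h2 => by
    rw [classInner_sub_left, hη ν h2, hχ.orthonormal, if_neg (Ne.symm h1), sub_zero]
  rw [classInner_sub_left, hχ.orthonormal, if_pos rfl] at h0
  rcases (classInner_signed hx (hχ.irr_or_neg ω)).2 with e | ⟨e, -⟩ | ⟨-, e⟩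
  · rw [e] at h0; norm_num at h0
  · exact hne e.symm
  · rw [e] at h0; norm_num at h0

end Cfsg.Agent.CyclicTI
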