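import Cfsg.Agent.Lib.CyclicTI.Basic
import Cfsg.Agent.Lib.Coherence.Virtual
import Cfsg.Agent.Lib.Char.Virtual
import Cfsg.Agent.S1509

/-!
Exceptional characters for a group `L = K ⋊ W₁` in which all nontrivial elements of `W₁` have the
same centraliser `W₂` in `K`.

* `signed_of_differences` : the exceptional characters of a coherent family of norm two differences
* `Setup`, `Setup.mem_of_conj`, `Setup.indFun_eq`, `Setup.isometry` : `W ∖ W₂` is a TI subset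
* `Setup.vanish`, `Setup.exists_family` : the exceptional family and its values
-/
set_option autoImplicit false

namespace Cfsg.Agent.CyclicTI.TypeP

open Cfsg Cfsg.Agent Cfsg.Agent.Char Cfsg.Agent.Coherence Cfsg.Agent.CyclicTI
open scoped ComplexConjugate

variable {G : Type*} [Group G] [Fintype G]

theorem signed_of_differences {ι : Type*} [Finite ι] (h3 : 3 ≤ Nat.card ι) (D : ι → ι → G → ℂ)
    (hgc : ∀ a b, IsGeneralizedCharacter G (D a b)) (h1 : ∀ a b, D a b 1 = 0)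
    (hadd : ∀ a b c, D a b + D b c = D a c) (hnorm : ∀ a b, a ≠ b → classInner (D a b) (D a b) = 2)
    (hdot : ∀ a b c, a ≠ b → a ≠ c → b ≠ c → classInner (D a b) (D a c) = 1) :
    ∃ x : ι → G → ℂ, (∀ a, IsSignedIrr G (x a)) ∧ (∀ a b, a ≠ b → classInner (x a) (x b) = 0) ∧
      ∀ a b, D a b = x a - x b := by
  classical
  haveI := Fintype.ofFinite ι
  rw [Nat.card_eq_fintype_card] at h3
  obtain ⟨a, b₀, c₀, hab₀, hac₀, hbc₀⟩ := Fintype.two_lt_card_iff.mp (show 2 < Fintype.card ι by omega)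
  choose μ ν hμ hν hμν hD using fun b : {b : ι // b ≠ a} =>
    gc_norm_two (hgc a b) (hnorm a b (Ne.symm b.2)) (h1 a b)
  have hshare : ∀ b c : {b : ι // b ≠ a}, b ≠ c → (μ b = μ c ∧ ν b ≠ ν c) ∨ (ν b = ν c ∧ μ b ≠ μ c) := by
    intro b c hne
    have h := hdot a b c (Ne.symm b.2) (Ne.symm c.2) (fun e => hne (Subtype.ext e))
    rw [hD b, hD c] at h
    simp only [classInner_sub_left, classInner_sub_right, classInner_irr (hμ b) (hμ c),
      classInner_irr (hν b) (hν c), classInner_irr (hμ b) (hν c), classInner_irr (hν b) (hμ c)] at h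
    by_cases e1 : μ b = μ c <;> by_cases e2 : ν b = ν c
    · have e3 : μ b ≠ ν c := fun e => hμν b (e.trans e2.symm)
      have e4 : ν b ≠ μ c := fun e => hμν b (e1.trans e.symm)
      rw [if_pos e1, if_pos e2, if_neg e3, if_neg e4] at h
      norm_num at h
    · exact Or.inl ⟨e1, e2⟩
    · exact Or.inr ⟨e2, e1⟩
    · exfalso
      rw [if_neg e1, if_neg e2] at h
      split_ifs at h <;> norm_num at h
  have hstar : (∀ b c, μ b = μ c) ∨ ∀ b c, ν b = ν c := by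
    by_cases hex : ∃ b c, b ≠ c ∧ μ b = μ c
    · obtain ⟨b, c, hbc, he⟩ := hex
      refine Or.inl fun d d' => ?_
      suffices ∀ d, μ d = μ b from (this d).trans (this d').symm
      intro d
      by_contra hd
      have hdb : d ≠ b := fun e => hd (e ▸ rfl)
      have hdc : d ≠ c := fun e => hd (e ▸ he.symm)
      rcases hshare d b hdb with ⟨e, -⟩ | ⟨e, -⟩
      · exact hd e
      rcases hshare d c hdc with ⟨e', -⟩ | ⟨e', -⟩
      · exact hd (e'.trans he.symm)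
      rcases hshare b c hbc with ⟨-, e''⟩ | ⟨-, e''⟩
      · exact e'' (e.symm.trans e')
      · exact e'' he
    · push Not at hex
      refine Or.inr fun b c => ?_
      by_cases h : b = c
      · rw [h]
      · exact ((hshare b c h).resolve_left fun e => hex b c h e.1).1
  have hself : ∀ c, D c c = 0 := fun c => by simpa using hadd c c c
  -- assemble from a centre and the leaves
  have build : ∀ (z : G → ℂ) (y : {b : ι // b ≠ a} → G → ℂ), IsSignedIrr G z →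
      (∀ b, IsSignedIrr G (y b)) → (∀ b, classInner z (y b) = 0) →
      (∀ b c, b ≠ c → classInner (y b) (y c) = 0) → (∀ b : {b : ι // b ≠ a}, D a b = z - y b) →
      ∃ x : ι → G → ℂ, (∀ a, IsSignedIrr G (x a)) ∧ (∀ a b, a ≠ b → classInner (x a) (x b) = 0) ∧
        ∀ a b, D a b = x a - x b := by
    intro z y hz hy hzy hyy hDy
    let x : ι → G → ℂ := fun c => if h : c = a then z else y ⟨c, h⟩
    have hDa : ∀ c, D a c = z - x c := by
      intro c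
      by_cases h : c = a
      · subst h; simp [x, hself]
      · simpa [x, h] using hDy ⟨c, h⟩
    refine ⟨x, fun c => ?_, fun c d hcd => ?_, fun c d => ?_⟩
    · simp only [x]; split_ifs
      · exact hz
      · exact hy _
    · simp only [x]; split_ifs with e1 e2 e2
      · exact absurd (e1.trans e2.symm) hcd
      · exact hzy _
      · rw [← classInner_conj_symm, hzy, map_zero]
      · exact hyy _ _ fun e => hcd (congrArg Subtype.val e)
    · have := hadd a c d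
      rw [hDa c, hDa d] at this
      rw [eq_sub_of_add_eq' this]; abel
  rcases hstar with h | h
  · refine build (μ ⟨b₀, Ne.symm hab₀⟩) (fun b => ν b) (Or.inl (hμ _)) (fun b => Or.inl (hν b))
      (fun b => ?_) (fun b c hbc => ?_) (fun b => by rw [hD b, h b])
    · rw [h _ b]; exact classInner_irr_of_ne (hμ b) (hν b) (hμν b)
    · refine classInner_irr_of_ne (hν b) (hν c) fun e => ?_
      rcases hshare b c hbc with ⟨-, e'⟩ | ⟨-, e'⟩
      · exact e' e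
      · exact e' (h b c)
  · refine build (-ν ⟨b₀, Ne.symm hab₀⟩) (fun b => -μ b) (Or.inr (by rw [neg_neg]; exact hν _))
      (fun b => Or.inr (by rw [neg_neg]; exact hμ b))
      (fun b => ?_) (fun b c hbc => ?_) (fun b => by rw [hD b, h b ⟨b₀, Ne.symm hab₀⟩]; abel)
    · rw [classInner_neg_left, classInner_neg_right, neg_neg, h _ b]
      exact classInner_irr_of_ne (hν b) (hμ b) (Ne.symm (hμν b))
    · rw [classInner_neg_left, classInner_neg_right, neg_neg]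
      refine classInner_irr_of_ne (hμ b) (hμ c) fun e => ?_
      rcases hshare b c hbc with ⟨-, e'⟩ | ⟨-, e'⟩
      · exact e' (h b c)
      · exact e' e

variable {L : Type*} [Group L] [Fintype L]

/-- The hypotheses: `L = K ⋊ W₁` and `C_K(x) = W₂` for all nontrivial `x ∈ W₁`. -/
structure Setup (K W₁ W₂ : Subgroup L) : Prop where
  normal : K.Normal
  disj : K ⊓ W₁ = ⊥
  sup : K ⊔ W₁ = ⊤
  ne : W₁ ≠ ⊥
  cyc₁ : IsCyclic W₁
  cyc₂ : IsCyclic W₂
  coprime : Nat.Coprime (Nat.card W₁) W₁.index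
  le : W₂ ≤ K
  cent : ∀ x ∈ W₁, x ≠ 1 → K ⊓ Subgroup.centralizer ({x} : Set L) = W₂

namespace Setup

variable {K W₁ W₂ : Subgroup L} (h : Setup K W₁ W₂)
include h

theorem comm_mem {x : L} (hx : x ∈ W₁) {y : L} (hy : y ∈ W₂) : x * y = y * x := by
  by_cases h1 : x = 1
  · simp [h1]
  rw [← h.cent x hx h1] at hy
  exact (Subgroup.mem_centralizer_singleton_iff.mp (Subgroup.mem_inf.mp hy).2).symm

theorem isPair : IsPair W₁ W₂ :=
  ⟨eq_bot_iff.mpr fun x hx => h.disj.le ⟨h.le (Subgroup.mem_inf.mp hx).2, (Subgroup.mem_inf.mp hx).1⟩,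
    fun _ ha _ hb => h.comm_mem ha hb⟩

theorem comm (u v : ↥(W₁ ⊔ W₂)) : u * v = v * u := by
  obtain ⟨a, ha, b, hb, e⟩ := h.isPair.exists_mul u.2
  obtain ⟨a', ha', b', hb', e'⟩ := h.isPair.exists_mul v.2
  haveI := h.cyc₁
  haveI := h.cyc₂
  have c₁ : a * a' = a' * a :=
    congrArg Subtype.val ((IsCyclic.commGroup (α := W₁)).mul_comm ⟨a, ha⟩ ⟨a', ha'⟩)
  have c₂ : b * b' = b' * b :=
    congrArg Subtype.val ((IsCyclic.commGroup (α := W₂)).mul_comm ⟨b, hb⟩ ⟨b', hb'⟩)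
  apply Subtype.ext
  rw [Subgroup.coe_mul, Subgroup.coe_mul, ← e, ← e']
  calc a * b * (a' * b') = a * (b * a') * b' := by group
    _ = a * (a' * b) * b' := by rw [h.comm_mem ha' hb]
    _ = (a * a') * (b * b') := by group
    _ = (a' * a) * (b' * b) := by rw [c₁, c₂]
    _ = a' * (a * b') * b := by group
    _ = a' * (b' * a) * b := by rw [h.comm_mem ha hb']
    _ = a' * b' * (a * b) := by group

/-- `W ∖ W₂` is a TI subset with normaliser `W`. -/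
theorem mem_of_conj {v g : L} (hv : v ∈ W₁ ⊔ W₂) (hv₂ : v ∉ W₂) (hg : g * v * g⁻¹ ∈ W₁ ⊔ W₂) :
    g ∈ W₁ ⊔ W₂ := by
  haveI := h.normal
  have hP := h.isPair
  obtain ⟨x, hx, y, hy, hxy⟩ := hP.exists_mul hv
  obtain ⟨x', hx', y', hy', hxy'⟩ := hP.exists_mul hg
  have hcomp : Subgroup.IsComplement' K W₁ := Subgroup.isComplement'_of_disjoint_and_mul_eq_univ
    (disjoint_iff.mpr h.disj) (by rw [← Subgroup.normal_mul, h.sup]; rfl)
  have hcop : Nat.Coprime (Nat.card W₁) (Nat.card W₂) := by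
    refine h.coprime.coprime_dvd_right ?_
    rw [hcomp.index_eq_card]; exact Subgroup.card_dvd_of_le h.le
  obtain ⟨e, he1, he2⟩ := Nat.chineseRemainder hcop 1 0
  have hpow : ∀ a ∈ W₁, ∀ b ∈ W₂, (a * b) ^ e = a := by
    intro a ha b hb
    rw [Commute.mul_pow (h.comm_mem ha hb)]
    have h1 : a ^ e = a := by
      conv_rhs => rw [← pow_one a]
      exact pow_eq_pow_iff_modEq.mpr (he1.of_dvd (Subgroup.orderOf_dvd_natCard W₁ ha))
    have h2 : b ^ e = 1 := orderOf_dvd_iff_pow_eq_one.mp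
      ((Subgroup.orderOf_dvd_natCard W₂ hb).trans (Nat.modEq_zero_iff_dvd.mp he2))
    rw [h1, h2, mul_one]
  have hgx : g * x * g⁻¹ = x' := by
    have := congrArg (· ^ e) hxy'
    simp only [conj_pow] at this
    rw [hpow x' hx' y' hy', ← hxy, hpow x hx y hy] at this
    exact this.symm
  have hx1 : x ≠ 1 := fun e1 => hv₂ (by rw [← hxy, e1, one_mul]; exact hy)
  obtain ⟨⟨⟨k, hk⟩, ⟨w, hw⟩⟩, hkw⟩ := hcomp.2 g
  simp only at hkw
  haveI := h.cyc₁
  have hwx : w * x * w⁻¹ = x := by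
    rw [show w * x = x * w from congrArg Subtype.val
      ((IsCyclic.commGroup (α := W₁)).mul_comm ⟨w, hw⟩ ⟨x, hx⟩), mul_inv_cancel_right]
  have hkx : k * x * k⁻¹ = x' := by
    rw [← hgx, ← hkw]
    conv_lhs => rw [← hwx]
    group
  have hxx : x' = x := by
    have hmem : x' * x⁻¹ ∈ K ⊓ W₁ := by
      refine Subgroup.mem_inf.mpr ⟨?_, mul_mem hx' (inv_mem hx)⟩
      rw [← hkx, show k * x * k⁻¹ * x⁻¹ = k * (x * k⁻¹ * x⁻¹) by group]
      exact mul_mem hk (h.normal.conj_mem _ (inv_mem hk) x)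
    rwa [h.disj, Subgroup.mem_bot, mul_inv_eq_one] at hmem
  have hkW : k ∈ W₂ := by
    rw [← h.cent x hx hx1]
    refine Subgroup.mem_inf.mpr ⟨hk, Subgroup.mem_centralizer_singleton_iff.mpr ?_⟩
    rw [hxx] at hkx
    exact mul_inv_eq_iff_eq_mul.mp hkx
  rw [← hkw]
  exact mul_mem (Subgroup.mem_sup_right hkW) (Subgroup.mem_sup_left hw)

/-- Induction changes nothing on `W ∖ W₂`. -/
theorem indFun_eq {f : ↥(W₁ ⊔ W₂) → ℂ} (hf : ∀ w : ↥(W₁ ⊔ W₂), (w : L) ∈ W₂ → f w = 0)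
    (v : ↥(W₁ ⊔ W₂)) (hv : (v : L) ∉ W₂) : indFun (W₁ ⊔ W₂) f v = f v := by
  classical
  have hterm : ∀ x : L, extendByZero (W₁ ⊔ W₂) f (x⁻¹ * v * x) = if x ∈ W₁ ⊔ W₂ then f v else 0 := by
    intro x
    split_ifs with hx
    · have hvx : v * (⟨x, hx⟩ : ↥(W₁ ⊔ W₂)) = ⟨x, hx⟩ * v := h.comm v _
      have he : x⁻¹ * (v : L) * x = v := by
        rw [mul_assoc, show (v : L) * x = x * v from congrArg Subtype.val hvx, inv_mul_cancel_left]
      rw [he, extendByZero_coe]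
    · refine extendByZero_not_mem _ _ fun hm => hx ?_
      have := h.mem_of_conj (g := x⁻¹) v.2 hv (by rwa [inv_inv])
      simpa using inv_mem this
  rw [indFun, Finset.sum_congr rfl fun x _ => hterm x, Finset.sum_ite, Finset.sum_const_zero, add_zero,
    Finset.sum_const, nsmul_eq_mul, ← Fintype.card_subtype, ← Nat.card_eq_fintype_card, ← mul_assoc,
    inv_mul_cancel₀ (Nat.cast_ne_zero.mpr Nat.card_pos.ne'), one_mul]

theorem isometry [Fintype ↥(W₁ ⊔ W₂)] {f f' : ↥(W₁ ⊔ W₂) → ℂ}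
    (hf : ∀ w : ↥(W₁ ⊔ W₂), (w : L) ∈ W₂ → f w = 0) (hf' : ∀ w : ↥(W₁ ⊔ W₂), (w : L) ∈ W₂ → f' w = 0) :
    classInner (indFun (W₁ ⊔ W₂) f) (indFun (W₁ ⊔ W₂) f') = classInner f f' := by
  rw [frobenius_reciprocity' _ _ (indFun_isClassFunction _ f), classInner, classInner]
  congr 1
  refine Finset.sum_congr rfl fun w _ => ?_
  by_cases hw : (w : L) ∈ W₂
  · simp [hf' w hw]
  · rw [h.indFun_eq hf w hw]

/-- A separating linear character. -/
theorem exists_sep [Fintype ↥(W₁ ⊔ W₂)] (w : ↥(W₁ ⊔ W₂)) (hw : (w : L) ∉ W₂) :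
    ∃ φ : ↥(W₁ ⊔ W₂) →* ℂˣ, h.isPair.lfst φ w ≠ 1 := by
  classical
  haveI : Finite (↥(W₁ ⊔ W₂) →* ℂˣ) := finite_lin _
  haveI : Fintype (↥(W₁ ⊔ W₂) →* ℂˣ) := Fintype.ofFinite _
  by_contra hno
  push Not at hno
  refine hw (h.isPair.mem₂_iff.mpr ?_)
  by_contra hne
  have := lin_expansion h.comm (fun u : ↥(W₁ ⊔ W₂) => if u = 1 then (1 : ℂ) else 0)
  have e : ∀ φ : ↥(W₁ ⊔ W₂) →* ℂˣ, φ (h.isPair.p₁ w) = φ 1 := fun φ => by
    rw [map_one]; exact hno φ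
  have h1 := congrFun this (h.isPair.p₁ w)
  have h2 := congrFun this 1
  simp only [Finset.sum_apply, Pi.smul_apply, lin_apply, e, if_neg hne, if_true] at h1 h2
  exact zero_ne_one (h1.trans h2.symm)

/-- A function on `W` orthogonal to every `η - η'` with `η = η'` on `W₂` vanishes off `W₂`. -/
theorem vanish [Fintype ↥(W₁ ⊔ W₂)] (f : ↥(W₁ ⊔ W₂) → ℂ)
    (hf : ∀ η η' : ↥(W₁ ⊔ W₂) →* ℂˣ, h.isPair.lsnd η = h.isPair.lsnd η' →
      classInner f (lin η) = classInner f (lin η'))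
    (w : ↥(W₁ ⊔ W₂)) (hw : (w : L) ∉ W₂) : f w = 0 := by
  classical
  have hP := h.isPair
  haveI : Finite (↥(W₁ ⊔ W₂) →* ℂˣ) := finite_lin _
  haveI : Fintype (↥(W₁ ⊔ W₂) →* ℂˣ) := Fintype.ofFinite _
  have hexp := congrFun (lin_expansion h.comm f) w
  simp only [Finset.sum_apply, Pi.smul_apply, lin_apply, smul_eq_mul] at hexp
  rw [hexp, ← Finset.sum_fiberwise Finset.univ hP.lsnd]
  refine Finset.sum_eq_zero fun ψ _ => ?_
  by_cases hne : ∃ η₀, hP.lsnd η₀ = ψ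
  · obtain ⟨η₀, hη₀⟩ := hne
    rw [Finset.sum_congr rfl (g := fun η => classInner f (lin η₀) * (η w : ℂ))
      (fun η hη => by rw [hf η η₀ ((Finset.mem_filter.mp hη).2.trans hη₀.symm)]), ← Finset.mul_sum]
    refine mul_eq_zero_of_right _ ?_
    obtain ⟨φ, hφ⟩ := h.exists_sep w hw
    set s := Finset.univ.filter fun η => hP.lsnd η = ψ
    have hlsnd : ∀ a b : ↥(W₁ ⊔ W₂) →* ℂˣ, hP.lsnd (hP.lfst a * b) = hP.lsnd b := fun a b =>
      MonoidHom.ext fun u => by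
        show hP.lfst a (hP.p₂ u) * b (hP.p₂ u) = b (hP.p₂ u)
        rw [hP.lfst_apply_of_mem₂ a (hP.p₂_mem u), one_mul]
    have hmul : (hP.lfst φ w : ℂ) * ∑ η ∈ s, (η w : ℂ) = ∑ η ∈ s, (η w : ℂ) := by
      rw [Finset.mul_sum]
      refine Finset.sum_equiv (Equiv.mulLeft (hP.lfst φ)) (fun η => ?_) (fun η _ => ?_)
      · simp [s, hlsnd]
      · simp
    have hne1 : (hP.lfst φ w : ℂ) - 1 ≠ 0 := sub_ne_zero.mpr fun e => hφ (Units.ext e)
    exact (mul_eq_zero.mp (show ((hP.lfst φ w : ℂ) - 1) * ∑ η ∈ s, (η w : ℂ) = 0 by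
      rw [sub_mul, hmul, one_mul, sub_self])).resolve_left hne1
  · exact Finset.sum_eq_zero fun η hη => absurd ⟨η, (Finset.mem_filter.mp hη).2⟩ hne

theorem exists_family [Fintype ↥(W₁ ⊔ W₂)] (hodd : Odd (Nat.card ↥(W₁ ⊔ W₂))) :
    ∃ x : (↥(W₁ ⊔ W₂) →* ℂˣ) → L → ℂ, (∀ ω, IsSignedIrr L (x ω)) ∧
      (∀ ω η, ω ≠ η → classInner (x ω) (x η) = 0) ∧
      ∀ ω η, h.isPair.lsnd ω = h.isPair.lsnd η →
        indFun (W₁ ⊔ W₂) (lin ω - lin η) = x ω - x η ∧ x ω 1 = x η 1 := by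
  classical
  have hP := h.isPair
  haveI : Finite (↥(W₁ ⊔ W₂) →* ℂˣ) := finite_lin _
  have hw3 : 3 ≤ Nat.card W₁ := by
    have h1 : 1 < Nat.card W₁ := (Subgroup.one_lt_card_iff_ne_bot _).mpr h.ne
    obtain ⟨u, hu⟩ := hodd.of_dvd_nat (Subgroup.card_dvd_of_le (H := W₁) le_sup_left)
    omega
  have hvan : ∀ ω η : ↥(W₁ ⊔ W₂) →* ℂˣ, hP.lsnd ω = hP.lsnd η →
      ∀ w : ↥(W₁ ⊔ W₂), (w : L) ∈ W₂ → (lin ω - lin η : _ → ℂ) w = 0 := fun ω η e w hw => by
    rw [Pi.sub_apply, lin_apply, lin_apply, ← hP.lsnd_apply_of_mem₂ ω hw, e, hP.lsnd_apply_of_mem₂ η hw, sub_self]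
  have hiso : ∀ ω ω' η η' : ↥(W₁ ⊔ W₂) →* ℂˣ, hP.lsnd ω = hP.lsnd ω' → hP.lsnd η = hP.lsnd η' →
      classInner (indFun (W₁ ⊔ W₂) (lin ω - lin ω')) (indFun (W₁ ⊔ W₂) (lin η - lin η')) =
        (if ω = η then 1 else 0) - (if ω = η' then 1 else 0) -
          ((if ω' = η then 1 else 0) - (if ω' = η' then 1 else 0)) := fun ω ω' η η' e e' => by
    rw [h.isometry (hvan _ _ e) (hvan _ _ e')]
    simp only [classInner_sub_left, classInner_sub_right, classInner_lin]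
    ring
  have hone : ∀ ω ω' : ↥(W₁ ⊔ W₂) →* ℂˣ, indFun (W₁ ⊔ W₂) (lin ω - lin ω') 1 = 0 := fun ω ω' => by
    rw [indFun_one_apply, Pi.sub_apply, lin_apply, lin_apply, map_one, map_one, sub_self, mul_zero]
  let I := {φ : ↥(W₁ ⊔ W₂) →* ℂˣ // ∀ w : ↥(W₁ ⊔ W₂), (w : L) ∈ W₂ → φ w = 1}
  let J := {ψ : ↥(W₁ ⊔ W₂) →* ℂˣ // ∀ w : ↥(W₁ ⊔ W₂), (w : L) ∈ W₁ → ψ w = 1}
  have hI : 3 ≤ Nat.card I := hw3.trans_eq (card_lin_factor₁ hP h.comm).symm
  have hsnd : ∀ (φ : I) (ψ : J), hP.lsnd (φ.1 * ψ.1) = ψ.1 := fun φ ψ => (hP.split_mul φ.2 ψ.2).2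
  have hinj : ∀ (φ φ' : I) (ψ ψ' : J), φ.1 * ψ.1 = φ'.1 * ψ'.1 → φ = φ' ∧ ψ = ψ' := fun φ φ' ψ ψ' e =>
    ⟨Subtype.ext (by rw [← (hP.split_mul φ.2 ψ.2).1, e, (hP.split_mul φ'.2 ψ'.2).1]),
      Subtype.ext (by rw [← hsnd φ ψ, e, hsnd φ' ψ'])⟩
  have hfam : ∀ ψ : J, ∃ X : I → L → ℂ, (∀ a, IsSignedIrr L (X a)) ∧
      (∀ a b, a ≠ b → classInner (X a) (X b) = 0) ∧
      ∀ a b, indFun (W₁ ⊔ W₂) (lin (a.1 * ψ.1) - lin (b.1 * ψ.1)) = X a - X b := by
    intro ψ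
    refine signed_of_differences hI (fun a b => indFun (W₁ ⊔ W₂) (lin (a.1 * ψ.1) - lin (b.1 * ψ.1)))
      (fun a b => ?_) (fun a b => hone _ _) (fun a b c => ?_) (fun a b hab => ?_) (fun a b c hab hac hbc => ?_)
    · exact IsGeneralizedCharacter.indFun (isGC_sub (isGC_of_irr (lin_irr _)) (isGC_of_irr (lin_irr _)))
    · rw [← indFun_add]; congr 1; abel
    · have n1 : a.1 * ψ.1 ≠ b.1 * ψ.1 := fun e => hab (hinj _ _ _ _ e).1
      rw [hiso _ _ _ _ (by rw [hsnd, hsnd]) (by rw [hsnd, hsnd])]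
      simp [n1, Ne.symm n1]; norm_num
    · have n1 : a.1 * ψ.1 ≠ b.1 * ψ.1 := fun e => hab (hinj _ _ _ _ e).1
      have n2 : a.1 * ψ.1 ≠ c.1 * ψ.1 := fun e => hac (hinj _ _ _ _ e).1
      have n3 : b.1 * ψ.1 ≠ c.1 * ψ.1 := fun e => hbc (hinj _ _ _ _ e).1
      rw [hiso _ _ _ _ (by rw [hsnd, hsnd]) (by rw [hsnd, hsnd])]
      simp [n1, n2, n3, Ne.symm n1]
  choose X hXs hXo hXD using hfam
  let mkI : (↥(W₁ ⊔ W₂) →* ℂˣ) → I := fun ω => ⟨hP.lfst ω, fun w hw => hP.lfst_apply_of_mem₂ ω hw⟩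
  let mkJ : (↥(W₁ ⊔ W₂) →* ℂˣ) → J := fun ω => ⟨hP.lsnd ω, fun w hw => hP.lsnd_apply_of_mem₁ ω hw⟩
  let x : (↥(W₁ ⊔ W₂) →* ℂˣ) → L → ℂ := fun ω => X (mkJ ω) (mkI ω)
  have hdiff : ∀ ω η, hP.lsnd ω = hP.lsnd η →
      indFun (W₁ ⊔ W₂) (lin ω - lin η) = x ω - x η := by
    intro ω η e
    have hJ : mkJ ω = mkJ η := Subtype.ext e
    have := hXD (mkJ ω) (mkI ω) (mkI η)
    rw [show (mkI ω).1 * (mkJ ω).1 = ω from hP.lfst_mul_lsnd ω,
      show (mkI η).1 * (mkJ ω).1 = η by rw [hJ]; exact hP.lfst_mul_lsnd η] at this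
    rw [this]
    simp only [x, hJ]
  have hval : ∀ ω η, hP.lsnd ω = hP.lsnd η → x ω 1 = x η 1 := fun ω η e => by
    have := congrFun (hdiff ω η e) 1
    rw [hone, Pi.sub_apply] at this
    exact (sub_eq_zero.mp this.symm)
  refine ⟨x, fun ω => hXs _ _, fun ω η hne => ?_, fun ω η e => ⟨hdiff ω η e, hval ω η e⟩⟩
  by_cases e : hP.lsnd ω = hP.lsnd η
  · have hJ : mkJ ω = mkJ η := Subtype.ext e
    simp only [x]
    rw [hJ]
    refine hXo _ _ _ fun e' => hne ?_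
    rw [← hP.lfst_mul_lsnd ω, ← hP.lfst_mul_lsnd η, show hP.lfst ω = hP.lfst η from congrArg Subtype.val e', e]
  · -- two families are orthogonal
    have hJne : mkJ ω ≠ mkJ η := fun e' => e (congrArg Subtype.val e')
    have hex : ∀ ν : ↥(W₁ ⊔ W₂) →* ℂˣ, ∃ ν', ν' ≠ ν ∧ hP.lsnd ν' = hP.lsnd ν := by
      intro ν
      haveI : Nontrivial I := Finite.one_lt_card_iff_nontrivial.mp (by omega)
      obtain ⟨φ', hφ'⟩ := exists_ne (mkI ν)
      refine ⟨φ'.1 * (mkJ ν).1, fun e' => hφ' (Subtype.ext ?_), hsnd φ' (mkJ ν)⟩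
      rw [← (hP.split_mul φ'.2 (mkJ ν).2).1, e']
    obtain ⟨ω', hω', hωs⟩ := hex ω
    obtain ⟨η', hη', hηs⟩ := hex η
    have ho : ∀ a b, hP.lsnd a = hP.lsnd ω → hP.lsnd b = hP.lsnd η → a ≠ b :=
      fun a b ha hb eq => e (ha.symm.trans ((congrArg hP.lsnd eq).trans hb))
    have hmix : classInner (x ω - x ω') (((1 : ℝ) : ℂ) • x η - ((1 : ℝ) : ℂ) • x η') = 0 := by
      rw [Complex.ofReal_one, one_smul, one_smul, ← hdiff ω ω' hωs.symm, ← hdiff η η' hηs.symm,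
        hiso _ _ _ _ hωs.symm hηs.symm, if_neg (ho _ _ rfl rfl), if_neg (ho _ _ rfl hηs),
        if_neg (ho _ _ hωs rfl), if_neg (ho _ _ hωs hηs)]
      ring
    have same : ∀ a b, a ≠ b → hP.lsnd a = hP.lsnd b → classInner (x a) (x b) = 0 := by
      intro a b hab e'
      have hJ : mkJ a = mkJ b := Subtype.ext e'
      simp only [x]
      rw [hJ]
      refine hXo _ _ _ fun e'' => hab ?_
      rw [← hP.lfst_mul_lsnd a, ← hP.lfst_mul_lsnd b, show hP.lfst a = hP.lfst b from congrArg Subtype.val e'', e']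
    exact (Cfsg.Agent.S1509.result (x ω) (x ω') (x η) (x η') (hXs _ _) (hXs _ _) (hXs _ _) (hXs _ _)
      1 1 one_ne_zero one_ne_zero (same ω ω' (Ne.symm hω') hωs.symm) (same η η' (Ne.symm hη') hηs.symm)
      hmix (hval ω ω' hωs.symm) (by rw [hval η η' hηs.symm])).1

end Setup

end Cfsg.Agent.CyclicTI.TypeP
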